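import Mathlib
import Cfsg.Agent.Nodes.WittU
import Cfsg.Agent.Nodes.WittRGDD
import Cfsg.Agent.Mrg.Omega.EH3.Kf.Base
import Cfsg.Agent.Mrg.Omega.EH3.Kf.InL
import Cfsg.Agent.OddHalf.DblR.MinusTor
import Cfsg.Agent.Nodes.RGDLift
import Cfsg.Agent.Nodes.Bruhat
import Cfsg.Agent.KFacts.RgdSys
import Cfsg.Agent.KFacts.RgdSL
import Cfsg.Agent.Omega.EH3.Cfg

section


/-!
Root group data of the classical groups in EVERY characteristic, 2 included (helper827; ODD D10).

`not_isPGroup`: `A ⊔ n A n⁻¹` (containing `n`) is not a finite `p`-group unless `n A n⁻¹ ≤ A`. With it the hypothesis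
`Odd p` of `WittRGD.rgd`, `WittRGDD.rgd`, `WittModel.rgd`, `WittU.hasRGD_PSU`, `WittU.hasRGD_PSp` is not needed:

* `rgdC` (= `WittRGD.rgd`), `rgdD` (= `WittRGDD.rgd`), `rgd_model` (= `WittModel.rgd`);
* `hasRGD_PSU`, `hasRGD_PSp`: every `p`.
-/

set_option autoImplicit false
set_option linter.unusedSectionVars false

namespace Cfsg.Agent.Nodes.RGDAllP

open CoxeterSystem Cfsg.Agent.ChevalleyStructure.CoxeterGeom Cfsg.Agent.Tits.Roots
open Cfsg.Agent.Nodes.Comb Cfsg.Agent.Nodes.Reps Cfsg.Agent.Nodes.BNOf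
open Cfsg.Agent.TitsThree Cfsg.Agent.TitsThree.Siegel Cfsg.Agent.TitsThree.WittFrame
  Cfsg.Agent.TitsThree.WittWeyl Cfsg.Agent.TitsThree.FrameCN
open scoped commutatorElement

/-- Maximal subgroups of finite `p`-groups are normal, hence `A ⊔ n A n⁻¹` is a `p`-group containing `n` only if
`n A n⁻¹ ≤ A`. -/
theorem le_of_isPGroup {Y : Type*} [Group Y] {p : ℕ} [Fact p.Prime] {A A' : Subgroup Y} [Finite ↥(A ⊔ A')] {n : Y}
    (hn : n ∈ A ⊔ A') (hA : cj n A = A') (hP : IsPGroup p ↥(A ⊔ A')) : A ⊔ A' = A := by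
  by_contra hne
  set P : Subgroup Y := A ⊔ A' with hPdef
  have hlt : A.subgroupOf P ≠ ⊤ := by
    intro h
    rw [Subgroup.subgroupOf_eq_top] at h
    exact hne (le_antisymm h le_sup_left)
  obtain ⟨M, hM, hle⟩ := (eq_top_or_exists_le_coatom (A.subgroupOf P)).resolve_left hlt
  have : Group.IsNilpotent ↥P := hP.isNilpotent
  have hnorm : M.Normal := Subgroup.NormalizerCondition.normal_of_coatom M Group.normalizerCondition_of_isNilpotent hM
  have h1 : Subgroup.subgroupOf A' P ≤ M := by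
    intro x hx
    rw [Subgroup.mem_subgroupOf, ← hA, mem_cj] at hx
    have h2 : (⟨n, hn⟩ : P)⁻¹ * x * ⟨n, hn⟩ ∈ M := hle (by rw [Subgroup.mem_subgroupOf]; exact hx)
    have h3 := hnorm.conj_mem _ h2 ⟨n, hn⟩
    have h4 : (⟨n, hn⟩ : P) * ((⟨n, hn⟩ : P)⁻¹ * x * ⟨n, hn⟩) * (⟨n, hn⟩ : P)⁻¹ = x := by group
    rwa [h4] at h3
  apply hM.1
  rw [eq_top_iff]
  have h5 : A ≤ M.map P.subtype := by
    intro a ha
    have haP : a ∈ P := (le_sup_left : A ≤ A ⊔ A') ha
    exact ⟨⟨a, haP⟩, hle ha, rfl⟩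
  have h6 : A' ≤ M.map P.subtype := by
    intro a ha
    have haP : a ∈ P := (le_sup_right : A' ≤ A ⊔ A') ha
    exact ⟨⟨a, haP⟩, h1 ha, rfl⟩
  rintro ⟨x, hx⟩ -
  obtain ⟨y, hy, e⟩ := (sup_le h5 h6 : P ≤ M.map P.subtype) hx
  have : y = ⟨x, hx⟩ := Subtype.ext e
  rwa [this] at hy

section Witt

variable {F : Type*} [Field F] {V : Type*} [AddCommGroup V] [Module F V] {H : HForm F V}

theorem finite_equiv [Finite V] : Finite (V ≃ₗ[F] V) :=
  Finite.of_injective (fun g : V ≃ₗ[F] V => (g : V → V)) DFunLike.coe_injective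

section C

open Cfsg.Agent.Nodes.TypeC Cfsg.Agent.Nodes.WittRoot Cfsg.Agent.Nodes.WittRGD

variable {n : ℕ} {Fr : Frame H (Fin n)} {G0 : Subgroup (V ≃ₗ[F] V)} (hA : Amb Fr G0)

include hA

theorem fix_PG {a b : Fin n × Bool} {g : V ≃ₗ[F] V} (hab : Ok a b) (hg : g ∈ PG Fr a b) :
    g (Fr.b a) = Fr.b a := by
  have hne : a ≠ neg a := fun h => by
    have := congrArg Prod.snd h
    simp [neg] at this
  by_cases h : a = b
  · subst h
    rw [PG_self] at hg
    obtain ⟨p, rfl⟩ := hg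
    exact Z_apply_of_ne Fr hne p
  · rcases eq_or_ne a.1 b.1 with h1 | h1
    · exfalso
      rcases hab with h2 | h2
      · exact h2 h1
      · exact h h2
    · rw [PG_ne Fr h1] at hg
      obtain ⟨t, rfl⟩ := hg
      exact X_apply_of_ne Fr h1 hne (fun h2 => h1 (by rw [h2]; rfl)) t

theorem conjC {W : Type*} [Group W] (cs : CoxeterSystem (CoxeterMatrix.B n) W) {p0 : Fr.Adm} (hp0 : p0.c ≠ 0)
    (i : Fin n) (x : Fin n → ℤ) (hx : IsRoot cs (isCartan n) x) :
    cj (nn Fr p0 i) (rg Fr x) = rg Fr (rep cs (isCartan n) (cs.simple i) x) := by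
  obtain ⟨a, b, hab, e⟩ := exists_of_isRoot cs hx
  rw [rg_eq Fr hab e, rep_simple, rg_eq Fr (hab.sg i) (ee_refl_of e)]
  exact hA.cj_sg (nn_mem hA p0 i) (mono_nn hp0 i) hab

theorem notpC [Finite V] {p : ℕ} [Fact p.Prime] {p0 : Fr.Adm} (hp0 : p0.c ≠ 0) (i : Fin n) :
    ¬ IsPGroup p ↥(rg Fr (sr i) ⊔ rg Fr (-sr i)) := by
  intro hP
  have := finite_equiv (F := F) (V := V)
  have hconj : cj (nn Fr p0 i) (rg Fr (sr i)) = rg Fr (-sr i) := by
    rw [conjC hA (CoxeterMatrix.B n).toCoxeterSystem hp0 i (sr i) (isRoot_sr _ _ _), rep_simple_sr]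
  have h1 := le_of_isPGroup (nn_mem_sup p0 i) hconj hP
  have h2 : nn Fr p0 i ∈ rg Fr (sr i) := by rw [← h1]; exact nn_mem_sup p0 i
  rw [rg_sr] at h2
  have h3 := fix_PG hA (ok_nx i) h2
  obtain ⟨l, hl, e⟩ := mono_nn (Fr := Fr) hp0 i (i, true)
  rw [h3] at e
  have h1 : ((i, true) : Fin n × Bool) ≠ sg i (i, true) := by
    by_cases hi : (i : ℕ) + 1 < n
    · rw [sg_up hi]; simp [Fin.ext_iff]
    · rw [sg_last hi]; simp
  exact not_prop h1 hl e

/-- **The root group datum of a Witt frame, every characteristic.** -/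
theorem rgdC [Finite V] {p : ℕ} [Fact p.Prime] [CharP F p] {p0 : Fr.Adm} (hp0 : p0.c ≠ 0)
    {W : Type*} [Group W] (cs : CoxeterSystem (CoxeterMatrix.B n) W) :
    RGD cs (isCartan n) p (Tor Fr G0) (nn Fr p0) (rg Fr) where
  nsys := nsys hA hp0
  conj := conjC hA cs hp0
  tor x hx t ht := by
    obtain ⟨a, b, hab, e⟩ := exists_of_isRoot cs hx
    rw [rg_eq Fr hab e]
    exact hA.cj_id ht.1 ht.2 hab
  comm x y hx hy hxy hxy' a ha b hb := comm_rg cs hx hy hxy hxy' ha hb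
  rk1 i u hu hne := rk1 hA hp0 i hu hne
  pgrp i := by rw [rg_sr]; exact isPGroup_PG _ _
  notp i := notpC hA hp0 i
  tcop := tcop hA

end C

section Model

open Cfsg.Agent.Nodes.TypeC Cfsg.Agent.Nodes.WittRoot Cfsg.Agent.Nodes.WittRGD Cfsg.Agent.Nodes.RGDLib

variable {n : ℕ} {Fr : Frame H (Fin n)} {K : Type*} [Group K] (M : Model Fr K)

/-- **The root group datum of a model, every characteristic.** -/
theorem rgd_model (hA : Amb Fr M.I) [Finite V] {p : ℕ} [Fact p.Prime] [CharP F p] {p0 : Fr.Adm} (hp0 : p0.c ≠ 0)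
    {W : Type*} [Group W] (cs : CoxeterSystem (CoxeterMatrix.B n) W) :
    RGD cs (isCartan n) p (WittModel.T M) (WittModel.nw M hA p0) (WittModel.X M) := by
  have := finite_equiv (F := F) (V := V)
  have : Finite W := finite_W cs
  exact rgd_map_of_ker_le_center (rgd_restrict (rgdC hA hp0 cs) M.I (fun x _ => hA.rg_le x)
    (fun i => nn_mem hA p0 i)) M.φ (WittModel.ker_le_center M hA)

end Model

section D

open Cfsg.Agent.Nodes.TypeC (wt wt_apply ng ng_ng ng_fst ng_snd wt_ng)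
open Cfsg.Agent.Nodes.TypeD Cfsg.Agent.Nodes.WittRGDD
open Cfsg.Agent.Nodes.WittRoot (Amb Mono XG mem_XG XG_swap)
open Cfsg.Agent.Nodes.WittRGD (Tor mem_Tor not_prop b_ne_zero eq_or_ng)

variable {n : ℕ} {Fr : Frame H (Fin (n + 2))} {G0 : Subgroup (V ≃ₗ[F] V)} (hA : Amb Fr G0)

include hA

theorem conjD {W : Type*} [Group W] (cs : CoxeterSystem (TypeD.M n) W) (i : Fin (n + 2)) (x : Fin (n + 2) → ℤ)
    (hx : IsRoot cs (isCartan n) x) :
    cj (nn Fr i) (rg Fr x) = rg Fr (rep cs (isCartan n) (cs.simple i) x) := by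
  obtain ⟨a, b, hab, e⟩ := exists_of_isRoot cs hx
  rw [rg_eq Fr hab e, rep_simple, rg_eq Fr (hab.sg i) (ee_refl_of e)]
  exact cj_sg hA (nn_mem hA i) (mono_nn i) hab

theorem notpD [Finite V] {p : ℕ} [Fact p.Prime] (i : Fin (n + 2)) :
    ¬ IsPGroup p ↥(rg Fr (sr i) ⊔ rg Fr (-sr i)) := by
  intro hP
  have := finite_equiv (F := F) (V := V)
  have hconj : cj (nn Fr i) (rg Fr (sr i)) = rg Fr (-sr i) := by
    rw [conjD hA (TypeD.M n).toCoxeterSystem i (sr i) (isRoot_sr _ _ _), rep_simple_sr]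
  have h1 := le_of_isPGroup (nn_mem_sup i) hconj hP
  have h2 : nn Fr i ∈ rg Fr (sr i) := by rw [← h1]; exact nn_mem_sup i
  rw [rg_sr] at h2
  obtain ⟨t, h2⟩ := h2
  have hne : ((i, true) : Fin (n + 2) × Bool) ≠ neg (i, true) := by simp [neg]
  have hok : ((i, true) : Fin (n + 2) × Bool).1 ≠ (nx i).1 := ok_nx i
  have h3 : nn Fr i (Fr.b (i, true)) = Fr.b (i, true) := by
    rw [h2]
    exact X_apply_of_ne Fr hok hne (fun h2 => hok (by rw [h2]; rfl)) t
  obtain ⟨l, hl, e⟩ := mono_nn (Fr := Fr) i (i, true)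
  rw [h3] at e
  exact not_prop (sg_ne i) hl e

/-- **The root group datum of type `D_{n+2}`, every characteristic.** -/
theorem rgdD [Finite V] {p : ℕ} [Fact p.Prime] [CharP F p] (h0 : ∀ p : Fr.Adm, p = 1)
    {W : Type*} [Group W] (cs : CoxeterSystem (TypeD.M n) W) :
    RGD cs (isCartan n) p (Tor Fr G0) (nn Fr) (rg Fr) where
  nsys := WittRGDD.nsys hA
  conj := conjD hA cs
  tor x hx t ht := by
    obtain ⟨a, b, hab, e⟩ := exists_of_isRoot cs hx
    rw [rg_eq Fr hab e]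
    exact cj_id hA ht.1 ht.2 hab
  comm x y hx hy _ hxy' a ha b hb := comm_rg cs h0 hx hy hxy' ha hb
  rk1 i u hu hne := WittRGDD.rk1 hA i hu hne
  pgrp i := by rw [rg_sr]; exact isPGroup_XG _ _
  notp i := notpD hA i
  tcop := WittRGD.tcop hA

end D

end Witt

section Main

open Cfsg.Agent.Nodes.TypeC Cfsg.Agent.Nodes.WittU

/-- **`PSU N F q` has a root group datum**, every characteristic. -/
theorem hasRGD_PSU {F : Type*} [Field F] [Fintype F] {q N : ℕ} (hF : Fintype.card F = q ^ 2) (hN : 3 ≤ N) {p : ℕ}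
    [Fact p.Prime] [CharP F p] :
    ∃ (l : ℕ) (M : CoxeterMatrix (Fin l)) (A : Fin l → Fin l → ℤ) (h : IsCartan M A) (T : Subgroup (PSU N F q))
      (n : Fin l → PSU N F q) (X : (Fin l → ℤ) → Subgroup (PSU N F q)), Finite M.Group ∧
      RGD M.toCoxeterSystem h p T n X ∧ RGDLib.G1 M.toCoxeterSystem h X = ⊤ := by
  obtain ⟨m, hm⟩ : ∃ m, N = 2 * m ∨ N = 2 * m + 1 := ⟨N / 2, by omega⟩
  obtain ⟨W, -⟩ := exists_wframe hF hm
  obtain ⟨p0, hp0, -⟩ := exists_adm hF W
  exact ⟨m, CoxeterMatrix.B m, A m, isCartan m, _, _, _, finite_W (CoxeterMatrix.B m).toCoxeterSystem,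
    rgd_model (KInstU.model hF hN W) (amb_U hF W) hp0 _, WittModel.G1_eq_top _ (by omega) _⟩

/-- **`PSp m F` has a root group datum**, every characteristic. -/
theorem hasRGD_PSp {F : Type*} [Field F] [Finite F] {m : ℕ} (hm : 1 ≤ m) {p : ℕ}
    [Fact p.Prime] [CharP F p] :
    ∃ (l : ℕ) (M : CoxeterMatrix (Fin l)) (A : Fin l → Fin l → ℤ) (h : IsCartan M A) (T : Subgroup (PSp m F))
      (n : Fin l → PSp m F) (X : (Fin l → ℤ) → Subgroup (PSp m F)), Finite M.Group ∧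
      RGD M.toCoxeterSystem h p T n X ∧ RGDLib.G1 M.toCoxeterSystem h X = ⊤ :=
  ⟨m, CoxeterMatrix.B m, A m, isCartan m, _, _, _, finite_W (CoxeterMatrix.B m).toCoxeterSystem,
    rgd_model (KInstSp.model m F) amb_Sp (p0 := SpIdent.adm 1) one_ne_zero _,
    WittModel.G1_eq_top _ (by omega) _⟩

end Main

end Cfsg.Agent.Nodes.RGDAllP

end

section


/-!
# EH3, Lie rows in characteristic 2: `PSU_{2m+1}(q)`, `m ≥ 2` (helper944)

* `Gd` for the unitary frames with `V0 = ⟨d⟩` (type `BC_m`), the root group of `2 ε_0` is not abelian;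
* `exists_bdU` : `PSU (2m+1) F q` has the data `FamRowU.BdU` (helper227), and there is no `Row` for them;
* `kfRowU` : `KfRowU (PSU (2m+1) F q)`; `kfRowU_of_odd` : odd dimension `≥ 5`.
-/

set_option autoImplicit false

namespace Cfsg.Agent.Omega.EH3.Kf.UOdd

open CoxeterSystem Cfsg.Agent.ChevalleyStructure.CoxeterGeom Cfsg.Agent.Tits.Roots
  Cfsg.Agent.Nodes.Comb Cfsg.Agent.Nodes.Reps Cfsg.Agent.Nodes.BNOf Cfsg.Agent.Nodes.TypeC
  Cfsg.Agent.Nodes.WittRoot Cfsg.Agent.Nodes.WittRGD Cfsg.Agent.Nodes.WittModel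
  Cfsg.Agent.Omega.EH3.Kf.Base Cfsg.Agent.Omega.EH3.Kf.TwC Cfsg.Agent.Omega.EH3.Kf.FamRow
  Cfsg.Agent.Omega.EH3.Kf.FamRowU
open Cfsg Cfsg.Agent.LieClassical.HermBasic
open Cfsg.Agent.TitsThree Cfsg.Agent.TitsThree.Siegel Cfsg.Agent.TitsThree.SiegelGen
  Cfsg.Agent.TitsThree.WittFrame Cfsg.Agent.TitsThree.WBridge Cfsg.Agent.TitsThree.WittWeyl
  Cfsg.Agent.TitsThree.FrameCN Cfsg.Agent.TitsThree.KSideU Cfsg.Agent.TitsThree.KSideUDesc
open scoped commutatorElement

/-! ### Frames -/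

section Frame

variable {F : Type*} [Field F] {V : Type*} [AddCommGroup V] [Module F V] {H : HForm F V} {n : ℕ}
  {Fr : Frame H (Fin n)} {G0 : Subgroup (V ≃ₗ[F] V)}

/-- the torus is abelian if `V0` is a line -/
theorem tor_comm (hA : Amb Fr G0) {d : V} (hd : d ∈ Fr.V0) (hV0 : ∀ w ∈ Fr.V0, ∃ a : F, w = a • d)
    {g k : V ≃ₗ[F] V} (hg : g ∈ Tor Fr G0) (hk : k ∈ Tor Fr G0) : g * k = k * g := by
  have hgd : ∃ l : F, g d = l • d := hV0 _ (hA.map_V0 hg.1 hg.2 (ρ := id) (fun _ => rfl) hd)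
  have hkd : ∃ l : F, k d = l • d := hV0 _ (hA.map_V0 hk.1 hk.2 (ρ := id) (fun _ => rfl) hd)
  obtain ⟨l, hl⟩ := hgd
  obtain ⟨m, hm⟩ := hkd
  have h1 : ∀ x, (g * k) (Fr.b x) = (k * g) (Fr.b x) := by
    intro x
    obtain ⟨a, -, ha⟩ := hg.2 x
    obtain ⟨c, -, hc⟩ := hk.2 x
    rw [id] at ha hc
    rw [mul_apply', mul_apply', ha, hc, map_smul, map_smul, ha, hc, smul_smul, smul_smul, mul_comm]
  have h2 : ∀ w ∈ Fr.V0, (g * k) w = (k * g) w := by
    intro w hw
    obtain ⟨a, rfl⟩ := hV0 w hw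
    rw [map_smul, map_smul]
    congr 1
    rw [mul_apply', mul_apply', hl, hm, map_smul, map_smul, hl, hm, smul_smul, smul_smul, mul_comm]
  have h3 : (k * g)⁻¹ * (g * k) = 1 := by
    refine Amb.eq_one_of_fix hA (fun x => ?_) (fun w hw => ?_)
    · rw [mul_apply', h1, ← mul_apply', inv_mul_cancel]; rfl
    · rw [mul_apply', h2 w hw, ← mul_apply', inv_mul_cancel]; rfl
  exact (inv_mul_eq_one.1 h3).symm

/-- a torus element which multiplies `b (j, true)` by `t` and fixes `V0`; `j` the last index -/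
theorem exists_tor (hA : Amb Fr G0) {i : Fin n} (hi : (i : ℕ) + 1 < n) {t : F} (ht : t ≠ 0) :
    ∃ g ∈ Tor Fr G0, g (Fr.b (⟨i + 1, hi⟩, true)) = t • Fr.b (⟨i + 1, hi⟩, true) ∧ ∀ w ∈ Fr.V0, g w = w := by
  have hne : ((i, true) : Fin n × Bool).1 ≠ (nx i).1 := by
    unfold nx; rw [dif_pos hi]; simp [Fin.ext_iff]
  have hnx : nx i = (⟨i + 1, hi⟩, false) := by unfold nx; rw [dif_pos hi]
  have e0 : neg (nx i) = ((⟨i + 1, hi⟩, true) : Fin n × Bool) := by rw [hnx]; rfl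
  have h1 := nX_apply_neg Fr hne ht
  have h2 := nX_apply_neg Fr hne (t := (1 : F)) one_ne_zero
  rw [e0] at h1 h2
  rw [one_smul] at h2
  refine ⟨(nX Fr (i, true) (nx i) 1)⁻¹ * nX Fr (i, true) (nx i) t, ?_, ?_, ?_⟩
  · refine ⟨mul_mem (inv_mem (nX_mem hA _ _ _)) (nX_mem hA _ _ _), ?_⟩
    exact (((mono_nX hi one_ne_zero).inv (sg_sg i)).mul (mono_nX hi ht)).congr fun x => sg_sg i x
  · rw [mul_apply', h1, map_smul, ← h2, ← mul_apply', inv_mul_cancel]; rfl
  · intro w hw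
    rw [mul_apply', nX_apply_V0 Fr hne hw]
    conv_lhs => rw [← nX_apply_V0 Fr hne hw 1]
    rw [← mul_apply', inv_mul_cancel]; rfl

end Frame

/-! ### The commutator identities -/

section Model

variable {F : Type*} [Field F] {V : Type*} [AddCommGroup V] [Module F V] {H : HForm F V} {n : ℕ}
  {Fr : Frame H (Fin n)} {K : Type*} [Group K] (M : Model Fr K)

theorem map_comm {x y : Fin n → ℤ} {g k : V ≃ₗ[F] V} (hg : g ∈ M.I) (hk : k ∈ M.I) (hgx : g ∈ rg Fr x)
    (hky : k ∈ rg Fr y) (h : ⁅g, k⁆ ∈ M.I) : M.φ ⟨⁅g, k⁆, h⟩ ∈ ⁅X M x, X M y⁆ := by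
  have e : (⟨⁅g, k⁆, h⟩ : M.I) = ⁅(⟨g, hg⟩ : M.I), ⟨k, hk⟩⁆ := by
    apply Subtype.ext
    rfl
  rw [e, map_commutatorElement]
  exact Subgroup.commutator_mem_commutator (mem_X_of M hg hgx) (mem_X_of M hk hky)

theorem X_mem_rg {x : Fin n → ℤ} {a b : Fin n × Bool} (hab : a.1 ≠ b.1) (e : ee x = wt a + wt b) (t : F) :
    Fr.X a b t ∈ rg Fr x := by
  rw [rg_eq Fr (Or.inl hab) e, PG_ne Fr hab]
  exact ⟨t, rfl⟩

theorem Z_mem_rg {x : Fin n → ℤ} {a : Fin n × Bool} (e : ee x = wt a + wt a) (p : Fr.Adm) :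
    Fr.Z a p ∈ rg Fr x := by
  rw [rg_eq Fr (Or.inr rfl) e, PG_self]
  exact ⟨p, rfl⟩

/-- **The commutator identities**: frames with `V0 ∋ d`, `h(d,d) ≠ 0`. -/
theorem gd (hp : ∃ d : V, H.h d d ≠ 0 ∧ ∀ a : F, ∃ c, Fr.ok (a • d) c) : Gd (X M) where
  a2 i j k hij hjk x y z ex ey ez := by
    intro u hu
    obtain ⟨g, hg, hgz, rfl⟩ := (mem_X M).1 hu
    rw [rg_eq Fr (Or.inl (hij.trans hjk).ne) ez, PG_ne Fr (hij.trans hjk).ne] at hgz
    obtain ⟨t, rfl⟩ := hgz
    have e1 := Fr.conj_X_X (x := (i, true)) (y := (j, false)) (z := (k, false)) hij.ne hjk.ne (hij.trans hjk).ne 1 t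
    rw [one_mul] at e1
    have e2 : Fr.X (i, true) (k, false) t = ⁅Fr.X (i, true) (j, false) 1, Fr.X (j, true) (k, false) t⁆ := by
      rw [commutatorElement_def]
      have e3 : Fr.X (i, true) (j, false) 1 * Fr.X (j, true) (k, false) t * (Fr.X (i, true) (j, false) 1)⁻¹ = _ := e1
      rw [e3]
      exact (mul_inv_cancel_right _ _).symm
    have e4 : (⟨Fr.X (i, true) (k, false) t, hg⟩ : M.I) =
        ⟨⁅Fr.X (i, true) (j, false) 1, Fr.X (j, true) (k, false) t⁆, e2 ▸ hg⟩ := Subtype.ext e2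
    rw [e4]
    exact map_comm M (M.hX _ _ _) (M.hX _ _ _) (X_mem_rg hij.ne ex 1) (X_mem_rg hjk.ne ey t) _
  mid i j hij x y z t ex ey ez et := by
    refine le_trans ?_ le_sup_right
    intro u hu
    obtain ⟨g, hg, hgz, rfl⟩ := (mem_X M).1 hu
    rw [rg_eq Fr (Or.inl hij.ne) ex, PG_ne Fr hij.ne] at hgz
    obtain ⟨s, rfl⟩ := hgz
    obtain ⟨d, hdd, hok⟩ := hp
    obtain ⟨c0, hc0⟩ := hok 1
    rw [one_smul] at hc0
    have hη := Fr.η_ne (j, true)
    obtain ⟨c, hc⟩ := hok (H.σ (-((Fr.η (j, true))⁻¹ * s)) * (H.h d d)⁻¹)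
    have e1 := Fr.Z_mul_Z (x := (i, true)) (y := (j, true)) hij.ne ⟨_, c, hc⟩ ⟨d, c0, hc0⟩
    have e2 : -(Fr.η (j, true) * H.σ (H.h ((H.σ (-((Fr.η (j, true))⁻¹ * s)) * (H.h d d)⁻¹) • d) d)) = s := by
      rw [H.smul_left, mul_assoc, inv_mul_cancel₀ hdd, mul_one, H.σσ]
      field_simp
    simp only at e1
    rw [e2] at e1
    have e3 : Fr.X (i, true) (j, true) s = ⁅Fr.Z (i, true) ⟨_, c, hc⟩, Fr.Z (j, true) ⟨d, c0, hc0⟩⁆ := by
      rw [commutatorElement_def, e1]; group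
    have e4 : (⟨Fr.X (i, true) (j, true) s, hg⟩ : M.I) =
        ⟨⁅Fr.Z (i, true) ⟨_, c, hc⟩, Fr.Z (j, true) ⟨d, c0, hc0⟩⁆, e3 ▸ hg⟩ := Subtype.ext e3
    rw [e4]
    exact map_comm M (M.hZ _ _) (M.hZ _ _) (Z_mem_rg ez _) (Z_mem_rg et _) _
  lng i j hij x y z t ex ey ez et := by
    intro u hu
    obtain ⟨g, hg, hgz, rfl⟩ := (mem_X M).1 hu
    rw [rg_eq Fr (Or.inr rfl) ez, PG_self] at hgz
    obtain ⟨p, rfl⟩ := hgz
    have e1 := Fr.conj_X_Z (x := (i, true)) (y := (j, true)) hij.ne 1 p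
    rw [map_one, Frame.Adm.one_smul, mul_one] at e1
    set s : F := -(H.ε⁻¹ * Fr.η (j, true) * H.σ p.c) with hs
    have e2 : Fr.Z (i, true) p = ⁅Fr.X (i, true) (j, false) 1, Fr.Z (j, true) p⁆ * (Fr.X (i, true) (j, true) s)⁻¹ := by
      rw [commutatorElement_def]
      have e3 : Fr.X (i, true) (j, false) 1 * Fr.Z (j, true) p * (Fr.X (i, true) (j, false) 1)⁻¹ = _ := e1
      rw [e3]; group
    have hI : ⁅Fr.X (i, true) (j, false) 1, Fr.Z (j, true) p⁆ ∈ M.I :=
      mul_mem (mul_mem (mul_mem (M.hX _ _ _) (M.hZ _ _)) (inv_mem (M.hX _ _ _))) (inv_mem (M.hZ _ _))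
    have e4 : (⟨Fr.Z (i, true) p, hg⟩ : M.I) =
        ⟨⁅Fr.X (i, true) (j, false) 1, Fr.Z (j, true) p⁆, hI⟩ * (⟨Fr.X (i, true) (j, true) s, M.hX _ _ _⟩ : M.I)⁻¹ :=
      Subtype.ext e2
    rw [e4, map_mul, map_inv]
    refine mul_mem ?_ (inv_mem ?_)
    · exact (le_sup_left.trans le_sup_left : ⁅X M y, X M t⁆ ≤ ⁅X M y, X M t⁆ ⊔ ⁅X M x, X M y⁆ ⊔ ⁅X M z, X M t⁆)
        (map_comm M (M.hX _ _ _) (M.hZ _ _) (X_mem_rg hij.ne ey 1) (Z_mem_rg et p) _)
    · -- the same as `mid`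
      obtain ⟨d, hdd, hok⟩ := hp
      obtain ⟨c0, hc0⟩ := hok 1
      rw [one_smul] at hc0
      have hη := Fr.η_ne (j, true)
      obtain ⟨c, hc⟩ := hok (H.σ (-((Fr.η (j, true))⁻¹ * s)) * (H.h d d)⁻¹)
      have e1 := Fr.Z_mul_Z (x := (i, true)) (y := (j, true)) hij.ne ⟨_, c, hc⟩ ⟨d, c0, hc0⟩
      have e2 : -(Fr.η (j, true) * H.σ (H.h ((H.σ (-((Fr.η (j, true))⁻¹ * s)) * (H.h d d)⁻¹) • d) d)) = s := by
        rw [H.smul_left, mul_assoc, inv_mul_cancel₀ hdd, mul_one, H.σσ]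
        field_simp
      simp only at e1
      rw [e2] at e1
      have e3 : Fr.X (i, true) (j, true) s = ⁅Fr.Z (i, true) ⟨_, c, hc⟩, Fr.Z (j, true) ⟨d, c0, hc0⟩⁆ := by
        rw [commutatorElement_def, e1]; group
      have e5 : (⟨Fr.X (i, true) (j, true) s, M.hX _ _ _⟩ : M.I) =
          ⟨⁅Fr.Z (i, true) ⟨_, c, hc⟩, Fr.Z (j, true) ⟨d, c0, hc0⟩⁆, e3 ▸ M.hX _ _ _⟩ := Subtype.ext e3
      rw [e5]
      exact (le_sup_right : ⁅X M z, X M t⁆ ≤ ⁅X M y, X M t⁆ ⊔ ⁅X M x, X M y⁆ ⊔ ⁅X M z, X M t⁆)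
        (map_comm M (M.hZ _ _) (M.hZ _ _) (Z_mem_rg ez _) (Z_mem_rg et _) _)

variable (hA : Amb Fr M.I)

include hA in
/-- `φ` is injective on the root groups of type II -/
theorem phi_Z {x : Fin n × Bool} {p : Fr.Adm} {h : Fr.Z x p ∈ M.I} (h1 : M.φ ⟨Fr.Z x p, h⟩ = 1) : p = 1 := by
  obtain ⟨l, hl⟩ := M.ker (Fr.b (neg x)) _ h1
  change Fr.Z x p (Fr.b (neg x)) = l • Fr.b (neg x) at hl
  rw [Z_apply_neg] at hl
  have h2 := congrArg (fun v => H.h v (Fr.b (neg x))) hl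
  simp only [H.add_left, H.smul_left, Fr.hb_self, mul_zero, zero_add, add_zero, Fr.h0' _ (Fr.ok_mem p.ok),
    Fr.hb_self_neg] at h2
  have hc : p.c = 0 := by
    rcases mul_eq_zero.1 h2 with h3 | h3
    · rcases mul_eq_zero.1 h3 with h4 | h4
      · exact h4
      · exact absurd h4 (Fr.η_ne _)
    · exact absurd h3 (Fr.η_ne _)
  have hw : p.w = 0 := hA.ok_aniso _ (by have := p.ok; rwa [hc] at this)
  exact Frame.Adm.ext hw hc

/-- type II elements of `K` -/
noncomputable abbrev zz (x : Fin n × Bool) (p : Fr.Adm) : K := M.Z x p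

theorem zz_mul (x : Fin n × Bool) (p q : Fr.Adm) : M.Z x (p * q) = M.Z x p * M.Z x q := by
  unfold Model.Z
  rw [← map_mul]
  congr 1
  exact Subtype.ext (Fr.Z_mul x p q)

theorem zz_one (x : Fin n × Bool) : M.Z x 1 = 1 := by
  have h := zz_mul M x 1 1
  rw [one_mul] at h
  exact mul_eq_left.1 h.symm

theorem zz_inv (x : Fin n × Bool) (p : Fr.Adm) : M.Z x p⁻¹ = (M.Z x p)⁻¹ := by
  rw [eq_inv_iff_mul_eq_one, ← zz_mul, inv_mul_cancel, zz_one]

include hA in
theorem zz_inj {x : Fin n × Bool} {p q : Fr.Adm} (h : M.Z x p = M.Z x q) : p = q := by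
  have h1 : M.Z x (p * q⁻¹) = 1 := by rw [zz_mul, zz_inv, h, mul_inv_cancel]
  exact mul_inv_eq_one.1 (phi_Z M hA h1)

/-- the root group of the last node -/
theorem mem_X_last {i : Fin n} (hi : ¬ (i : ℕ) + 1 < n) {k : K} : k ∈ X M (sr i) ↔ ∃ p : Fr.Adm, k = M.Z (i, true) p := by
  have hnx : nx i = (i, true) := by unfold nx; rw [dif_neg hi]
  rw [mem_X]
  constructor
  · rintro ⟨g, hg, h, rfl⟩
    rw [rg_sr, hnx, PG_self] at h
    obtain ⟨p, rfl⟩ := h
    exact ⟨p, rfl⟩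
  · rintro ⟨p, rfl⟩
    exact ⟨_, M.hZ _ _, by rw [rg_sr, hnx, PG_self]; exact ⟨p, rfl⟩, rfl⟩

/-- the root groups of the other nodes have exponent two -/
theorem sq_of_lt [CharP F 2] {i : Fin n} (hi : (i : ℕ) + 1 < n) {u : K} (hu : u ∈ X M (sr i)) : u * u = 1 := by
  have hne : ((i, true) : Fin n × Bool).1 ≠ (nx i).1 := by
    unfold nx; rw [dif_pos hi]; simp [Fin.ext_iff]
  obtain ⟨g, hg, h, rfl⟩ := (mem_X M).1 hu
  rw [rg_sr, PG_ne Fr hne] at h
  obtain ⟨t, rfl⟩ := h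
  rw [← map_mul]
  have e : (⟨Fr.X (i, true) (nx i) t, hg⟩ : M.I) * ⟨Fr.X (i, true) (nx i) t, hg⟩ = 1 := by
    apply Subtype.ext
    show Fr.X (i, true) (nx i) t * Fr.X (i, true) (nx i) t = 1
    rw [← Fr.X_add, CharTwo.add_self_eq_zero, Fr.X_zero]
  rw [e, map_one]

include hA in
/-- `T` is abelian -/
theorem T_comm {d : V} (hd : d ∈ Fr.V0) (hV0 : ∀ w ∈ Fr.V0, ∃ a : F, w = a • d) :
    ∀ s ∈ T M, ∀ t ∈ T M, s * t = t * s := by
  rintro _ ⟨g, hg, rfl⟩ _ ⟨k, hk, rfl⟩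
  have h1 := tor_comm hA hd hV0 (Subgroup.mem_subgroupOf.1 hg) (Subgroup.mem_subgroupOf.1 hk)
  rw [← map_mul, ← map_mul]
  congr 1
  exact Subtype.ext h1

end Model

/-! ### Admissible pairs in characteristic two -/

section Adm

variable {F : Type*} [Field F] {V : Type*} [AddCommGroup V] [Module F V] {H : HForm F V} {n : ℕ}
  {Fr : Frame H (Fin n)} {G0 : Subgroup (V ≃ₗ[F] V)} [CharP F 2]

theorem sq_w (p : Fr.Adm) : (p * p).w = 0 := by
  have h1 : p.w + p.w = ((1 : F) + 1) • p.w := by rw [add_smul, one_smul]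
  rw [Frame.Adm.mul_w, h1, CharTwo.add_self_eq_zero, zero_smul]

theorem sq_c (p : Fr.Adm) : (p * p).c = -(H.ε⁻¹ * H.h p.w p.w) := by
  rw [Frame.Adm.mul_c, CharTwo.add_self_eq_zero, zero_sub]

theorem sq_eq_one (hA : Amb Fr G0) {p : Fr.Adm} : p * p = 1 ↔ p.w = 0 := by
  constructor
  · intro h
    have h1 := sq_c p
    rw [h, Frame.Adm.one_c, eq_comm, neg_eq_zero, mul_eq_zero] at h1
    rcases h1 with h2 | h2
    · exact absurd h2 (inv_ne_zero H.ε_ne)
    · exact hA.aniso _ (Fr.ok_mem p.ok) h2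
  · intro h
    refine Frame.Adm.ext (sq_w p) ?_
    rw [sq_c, h, H.zero_left, mul_zero, neg_zero, Frame.Adm.one_c]

omit [CharP F 2] in
theorem cen_of_w {p : Fr.Adm} (h : p.w = 0) (r : Fr.Adm) : p * r = r * p := by
  refine Frame.Adm.ext ?_ ?_
  · rw [Frame.Adm.mul_w, Frame.Adm.mul_w, add_comm]
  · rw [Frame.Adm.mul_c, Frame.Adm.mul_c, h, H.zero_left, H.zero_right, add_comm]

end Adm

/-! ### The unitary groups of odd dimension -/

section Unitary

variable {F : Type*} [Field F] [Fintype F] [CharP F 2] {q N m : ℕ} (hF : Fintype.card F = q ^ 2) (hN : 3 ≤ N)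
  (W : WFrame (PU hF N) m) {d : Fin N → F} (hd : hermForm N F q d d = 1) (hW : W.V0 = Submodule.span F {d})

include hW in
theorem d_mem : d ∈ (toFrame W).V0 := by
  show d ∈ W.V0
  rw [hW]; exact Submodule.mem_span_singleton_self d

include hW in
theorem exists_smul : ∀ w ∈ (toFrame W).V0, ∃ a : F, w = a • d := by
  intro w hw
  have hw' : w ∈ W.V0 := hw
  rw [hW] at hw'
  obtain ⟨a, ha⟩ := Submodule.mem_span_singleton.1 hw'
  exact ⟨a, ha.symm⟩

include hW in
theorem exists_ok (a : F) : ∃ c, (toFrame W).ok (a • d) c := by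
  obtain ⟨c, hc⟩ := (PU hF N).ex (a • d)
  exact ⟨c, (toFrame W).V0.smul_mem a (d_mem hF W hW), hc⟩

include hd in
theorem d_ne : d ≠ 0 := by
  rintro rfl
  rw [herm_zero_left] at hd
  exact zero_ne_one hd

include hd in
theorem smul_inj {a b : F} (h : a • d = b • d) : a = b := by
  have h1 : (a - b) • d = 0 := by rw [sub_smul, h, sub_self]
  rcases smul_eq_zero.1 h1 with h2 | h2
  · exact sub_eq_zero.1 h2
  · exact absurd h2 (d_ne hd)

include hd hW in
/-- elements of `Ω₁` are squares -/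
theorem exists_sq {z : (toFrame W).Adm} (hz : z.w = 0) : ∃ y : (toFrame W).Adm, z = y * y := by
  have h1 : z.c + z.c ^ q = 0 := by
    have h2 := z.ok.2
    rw [ok_iff, hz, herm_zero_left, neg_zero] at h2
    exact h2
  have h2 : z.c ^ q = z.c := by
    have h3 := eq_neg_of_add_eq_zero_right h1
    rw [h3, CharTwo.neg_eq]
  obtain ⟨a, ha⟩ := exists_norm_eq hF h2
  obtain ⟨c, hc⟩ := exists_ok hF W hW a
  refine ⟨⟨a • d, c, hc⟩, ?_⟩
  refine Frame.Adm.ext ?_ ?_
  · rw [sq_w, hz]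
  · rw [sq_c]
    show z.c = -((1 : F)⁻¹ * hermForm N F q (a • d) (a • d))
    rw [inv_one, one_mul, herm_smul_left, herm_smul_right, hd, mul_one, ha, CharTwo.neg_eq]

include hd hW in
theorem card_lt {i : Fin m} (hi : ¬ (i : ℕ) + 1 < m) (Z : Subgroup (PSU N F q))
    (hZ : ∀ z ∈ Z, z ∈ X (KInstU.model hF hN W) (sr i) ∧ z * z = 1) :
    Nat.card Z * Nat.card Z < Nat.card (X (KInstU.model hF hN W) (sr i)) := by
  classical
  set M := KInstU.model hF hN W with hM
  have hA : Amb (toFrame W) M.I := Nodes.WittU.amb_U hF W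
  let Om := {c : F // c + c ^ q = 0}
  have hw : ∀ z : Z, ∃ p : (toFrame W).Adm, (z : PSU N F q) = M.Z (i, true) p ∧ p.w = 0 := by
    intro z
    obtain ⟨h1, h2⟩ := hZ z z.2
    obtain ⟨p, hp⟩ := (mem_X_last M hi).1 h1
    refine ⟨p, hp, (sq_eq_one hA).1 ?_⟩
    rw [hp, ← zz_mul, ← zz_one M (i, true)] at h2
    exact zz_inj M hA h2
  choose f hf hf0 using hw
  have hok : ∀ z, (f z).c + (f z).c ^ q = 0 := by
    intro z
    have h2 := (f z).ok.2
    rw [ok_iff, hf0, herm_zero_left, neg_zero] at h2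
    exact h2
  have h1 : Nat.card Z ≤ Nat.card Om := by
    refine Nat.card_le_card_of_injective (fun z => (⟨(f z).c, hok z⟩ : Om)) ?_
    intro z z' hzz
    have h3 : (f z).c = (f z').c := congrArg Subtype.val hzz
    have h4 : f z = f z' := Frame.Adm.ext (by rw [hf0, hf0]) h3
    apply Subtype.ext
    rw [hf z, hf z', h4]
  have h2 : Nat.card Om < Nat.card F := by
    obtain ⟨x, hx⟩ := exists_trace_ne hF
    rw [Nat.card_eq_fintype_card, Nat.card_eq_fintype_card]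
    exact Fintype.card_subtype_lt hx
  have h3 : Nat.card F * Nat.card Om ≤ Nat.card (X M (sr i)) := by
    choose s hs using exists_ok hF W hW
    rw [← Nat.card_prod]
    refine Nat.card_le_card_of_injective
      (fun x : F × Om => (⟨M.Z (i, true) ((⟨x.1 • d, s x.1, hs x.1⟩ : (toFrame W).Adm) *
        ⟨0, x.2.1, ⟨W.V0.zero_mem, by rw [ok_iff, herm_zero_left, neg_zero]; exact x.2.2⟩⟩),
        (mem_X_last M hi).2 ⟨_, rfl⟩⟩ : X M (sr i))) ?_
    rintro ⟨a, c⟩ ⟨a', c'⟩ h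
    have h4 := zz_inj M hA (congrArg Subtype.val h)
    have h5 := congrArg Frame.Adm.w h4
    simp only [Frame.Adm.mul_w, add_zero] at h5
    have h6 : a = a' := smul_inj hd h5
    subst h6
    have h7 := mul_left_cancel h4
    have h8 := congrArg Frame.Adm.c h7
    exact Prod.ext rfl (Subtype.ext h8)
  have h4 : 0 < Nat.card Om := by
    have : Nonempty Om := ⟨⟨0, by rw [zero_pow_q hF, add_zero]⟩⟩
    exact Nat.card_pos
  calc Nat.card Z * Nat.card Z ≤ Nat.card Om * Nat.card Om := Nat.mul_le_mul h1 h1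
    _ < Nat.card F * Nat.card Om := Nat.mul_lt_mul_of_pos_right h2 h4
    _ ≤ _ := h3

include hd hW in
/-- **The last node.** -/
theorem ex_last {i : Fin m} (hi : (i : ℕ) + 1 < m) (hi' : (i : ℕ) + 2 = m) :
    InL.Ex (T (KInstU.model hF hN W)) (X (KInstU.model hF hN W)) (⟨i + 1, hi⟩ : Fin m) where
  cen := by
    set M := KInstU.model hF hN W with hM
    have hA : Amb (toFrame W) M.I := Nodes.WittU.amb_U hF W
    have hl : ¬ (((⟨i + 1, hi⟩ : Fin m) : ℕ) + 1 < m) := by simp only; omega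
    intro u hu hu2 v hv
    obtain ⟨p, rfl⟩ := (mem_X_last M hl).1 hu
    obtain ⟨r, rfl⟩ := (mem_X_last M hl).1 hv
    rw [← zz_mul, ← zz_one M (⟨i + 1, hi⟩, true)] at hu2
    rw [← zz_mul, ← zz_mul, cen_of_w ((sq_eq_one hA).1 (zz_inj M hA hu2))]
  com := by
    set M := KInstU.model hF hN W with hM
    have hA : Amb (toFrame W) M.I := Nodes.WittU.amb_U hF W
    have hl : ¬ (((⟨i + 1, hi⟩ : Fin m) : ℕ) + 1 < m) := by simp only; omega
    intro u hu v hv
    obtain ⟨p, rfl⟩ := (mem_X_last M hl).1 hu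
    obtain ⟨r, rfl⟩ := (mem_X_last M hl).1 hv
    rw [← zz_inv, ← zz_inv, ← zz_mul, ← zz_mul, ← zz_mul, ← zz_mul, (sq_eq_one hA).2, zz_one]
    simp only [Frame.Adm.mul_w, Frame.Adm.inv_w]
    abel
  sq := by
    set M := KInstU.model hF hN W with hM
    have hA : Amb (toFrame W) M.I := Nodes.WittU.amb_U hF W
    have hl : ¬ (((⟨i + 1, hi⟩ : Fin m) : ℕ) + 1 < m) := by simp only; omega
    intro z hz hz2
    obtain ⟨p, rfl⟩ := (mem_X_last M hl).1 hz
    rw [← zz_mul, ← zz_one M (⟨i + 1, hi⟩, true)] at hz2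
    obtain ⟨y, hy⟩ := exists_sq hF W hd hW ((sq_eq_one hA).1 (zz_inj M hA hz2))
    exact ⟨M.Z (⟨i + 1, hi⟩, true) y, (mem_X_last M hl).2 ⟨y, rfl⟩, by rw [← zz_mul, ← hy]⟩
  irr := by
    set M := KInstU.model hF hN W with hM
    have hA : Amb (toFrame W) M.I := Nodes.WittU.amb_U hF W
    have hl : ¬ (((⟨i + 1, hi⟩ : Fin m) : ℕ) + 1 < m) := by simp only; omega
    intro K hK hO hT
    by_cases hK2 : ∀ z ∈ K, z * z = 1
    · exact Or.inl hK2
    right
    push Not at hK2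
    obtain ⟨k, hk, hk2⟩ := hK2
    obtain ⟨p, rfl⟩ := (mem_X_last M hl).1 (hK hk)
    have hp : p.w ≠ 0 := by
      intro h0
      apply hk2
      rw [← zz_mul, (sq_eq_one hA).2 h0, zz_one]
    obtain ⟨a, ha⟩ := exists_smul hF W hW _ ((toFrame W).ok_mem p.ok)
    have ha0 : a ≠ 0 := by
      rintro rfl
      rw [zero_smul] at ha
      exact hp ha
    have hOm : ∀ r : (toFrame W).Adm, r.w = 0 → M.Z (⟨i + 1, hi⟩, true) r ∈ K := by
      intro r hr
      refine hO _ ((mem_X_last M hl).2 ⟨r, rfl⟩) ?_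
      rw [← zz_mul, (sq_eq_one hA).2 hr, zz_one]
    intro u hu
    obtain ⟨r, rfl⟩ := (mem_X_last M hl).1 hu
    by_cases hr : r.w = 0
    · exact hOm r hr
    obtain ⟨b, hb⟩ := exists_smul hF W hW _ ((toFrame W).ok_mem r.ok)
    have hb0 : b ≠ 0 := by
      rintro rfl
      rw [zero_smul] at hb
      exact hr hb
    have ht0 : (HU hF N).σ (b * a⁻¹) ≠ 0 := by
      rw [ne_eq, map_eq_zero]
      exact mul_ne_zero hb0 (inv_ne_zero ha0)
    obtain ⟨g, hg, hg1, hg2⟩ := exists_tor hA hi ht0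
    have h1 := conj_Z (toFrame W) (hA.iso g hg.1) hg1 p p (hg2 _ ((toFrame W).ok_mem p.ok)) rfl
    rw [(HU hF N).σσ] at h1
    have h2 : M.Z (⟨i + 1, hi⟩, true) (Frame.Adm.smul (b * a⁻¹) p) ∈ K := by
      have h3 := hT (M.φ ⟨g, hg.1⟩) (Subgroup.mem_map_of_mem _ (Subgroup.mem_subgroupOf.2 hg)) _ hk
      have h4 : M.φ ⟨g, hg.1⟩ * M.Z (⟨i + 1, hi⟩, true) p * (M.φ ⟨g, hg.1⟩)⁻¹ =
          M.Z (⟨i + 1, hi⟩, true) (Frame.Adm.smul (b * a⁻¹) p) := by
        unfold Model.Z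
        rw [← map_inv, ← map_mul, ← map_mul]
        congr 1
        exact Subtype.ext h1
      rwa [h4] at h3
    have h3 : ((Frame.Adm.smul (b * a⁻¹) p)⁻¹ * r).w = 0 := by
      rw [Frame.Adm.mul_w, Frame.Adm.inv_w, Frame.Adm.smul_w, ha, hb, smul_smul, inv_mul_cancel_right₀ ha0,
        neg_add_cancel]
    have h4 := mul_mem h2 (hOm _ h3)
    rwa [← zz_mul, mul_inv_cancel_left] at h4
  card := card_lt hF hN W hd hW (by simp only; omega)

include hd hW in
/-- the root group of `2 ε_0` is not abelian -/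
theorem not_comm {x : Fin m → ℤ} {i : Fin m} (ex : ee x = wt (i, true) + wt (i, true)) :
    ⁅X (KInstU.model hF hN W) x, X (KInstU.model hF hN W) x⁆ ≠ ⊥ := by
  intro hbot
  set M := KInstU.model hF hN W with hM
  have hA : Amb (toFrame W) M.I := Nodes.WittU.amb_U hF W
  obtain ⟨b, hb⟩ := exists_not_fixed hF
  obtain ⟨c, hc⟩ := exists_ok hF W hW b
  obtain ⟨e, he⟩ := exists_ok hF W hW 1
  have h1 : ∀ p : (toFrame W).Adm, M.Z (i, true) p ∈ X M x := fun p => mem_X_of M (M.hZ _ _) (Z_mem_rg ex p)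
  have h2 : ⁅M.Z (i, true) ⟨b • d, c, hc⟩, M.Z (i, true) ⟨(1 : F) • d, e, he⟩⁆ = 1 := by
    rw [← Subgroup.mem_bot, ← hbot]
    exact Subgroup.commutator_mem_commutator (h1 _) (h1 _)
  rw [commutatorElement_eq_one_iff_mul_comm, ← zz_mul, ← zz_mul] at h2
  have h3 := congrArg Frame.Adm.c (zz_inj M hA h2)
  have h4 : c + e - (1 : F)⁻¹ * hermForm N F q ((1 : F) • d) (b • d) =
      e + c - (1 : F)⁻¹ * hermForm N F q (b • d) ((1 : F) • d) := h3
  rw [inv_one, one_mul, one_mul, herm_smul_left, herm_smul_right, herm_smul_left, herm_smul_right, hd, one_pow,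
    mul_one, mul_one, one_mul, add_comm e c, sub_right_inj] at h4
  exact hb (h4.trans (mul_one b))

include hd hW in
/-- **There is no row.** -/
theorem row_false (hm : 0 < m) {nn : Fin m → PSU N F q} {V : Type*} [AddCommGroup V] [Module (ZMod 2) V]
    {ρ : PSU N F q →* (V ≃ₗ[ZMod 2] V)} {b : LinearMap.BilinForm (ZMod 2) V} {a : V} {D : Submodule (ZMod 2) V}
    {X0 : Subgroup (PSU N F q)} {w : ℕ}
    (R : Row (CoxeterMatrix.B m).toCoxeterSystem (isCartan m) (T (KInstU.model hF hN W)) nn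
      (X (KInstU.model hF hN W)) ρ b a D X0 w) : False := by
  set M := KInstU.model hF hN W with hM
  have : Finite (CoxeterMatrix.B m).Group := finite_W (CoxeterMatrix.B m).toCoxeterSystem
  have hG : Gd (X M) := gd M ⟨d, by show hermForm N F q d d ≠ 0; rw [hd]; exact one_ne_zero, exists_ok hF W hW⟩
  have hX : X0 = Nodes.LeviDec.VJ (CoxeterMatrix.B m).toCoxeterSystem (isCartan m) (X M) (Mv ρ nn a)ᶜ :=
    Cov.eq_VJ R (fun u hu => ThmA.thmA R.core le_rfl u hu) (fun x hx h0 hs => hG.gen _ hx h0 hs)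
  obtain ⟨k, hk⟩ := mv_nonempty R
  obtain ⟨x, hx, ex⟩ := exists_root (CoxeterMatrix.B m).toCoxeterSystem (a := ((⟨0, hm⟩ : Fin m), true))
    (b := ((⟨0, hm⟩ : Fin m), true)) (Or.inr rfl) rfl le_rfl
  have h0 : (⟨0, hm⟩ : Fin m) ≤ k := Nat.zero_le _
  exact not_comm hF hN W hd hW ex (comm_bot R hX hx hx hk hk (pos_add ex h0) (pos_add ex h0))

end Unitary

universe u

/-- **`PSU_{2m+1}(q)`, `q` even, `m ≥ 2`**: the data, and there is no `Row`. -/
theorem exists_bdU {F : Type*} [Field F] [Fintype F] [CharP F 2] {q m : ℕ} (hF : Fintype.card F = q ^ 2)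
    (hm : 2 ≤ m) :
    ∃ (T : Subgroup (PSU (2 * m + 1) F q)) (n : Fin m → PSU (2 * m + 1) F q)
      (X : (Fin m → ℤ) → Subgroup (PSU (2 * m + 1) F q)), BdU (CoxeterMatrix.B m) (isCartan m) T n X ∧
      ∀ (V : Type u) [AddCommGroup V] [Module (ZMod 2) V] (ρ : PSU (2 * m + 1) F q →* (V ≃ₗ[ZMod 2] V))
        (b : LinearMap.BilinForm (ZMod 2) V) (a : V) (D : Submodule (ZMod 2) V) (X0 : Subgroup (PSU (2 * m + 1) F q))
        (w : ℕ), ¬ Row (CoxeterMatrix.B m).toCoxeterSystem (isCartan m) T n X ρ b a D X0 w := by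
  have hN : 3 ≤ 2 * m + 1 := by omega
  obtain ⟨W, d, hd, hW⟩ := exists_wframe_odd (N := 2 * m + 1) hF rfl
  obtain ⟨p0, hp0, -⟩ := Nodes.WittU.exists_adm hF W
  have hA : Amb (toFrame W) (KInstU.model hF hN W).I := Nodes.WittU.amb_U hF W
  have hlast : ∀ j : Fin m, ¬ (j : ℕ) + 1 < m → InL.Ex (T (KInstU.model hF hN W)) (X (KInstU.model hF hN W)) j := by
    intro j hj
    have hj2 := j.2
    have h1 := ex_last hF hN W hd hW (i := ⟨m - 2, by omega⟩) (by simp only; omega) (by simp only; omega)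
    have e : (⟨((⟨m - 2, by omega⟩ : Fin m) : ℕ) + 1, by simp only; omega⟩ : Fin m) = j := Fin.ext (by simp only; omega)
    rwa [e] at h1
  refine ⟨_, nw (KInstU.model hF hN W) hA p0, _, ⟨finite_W (CoxeterMatrix.B m).toCoxeterSystem,
    Nodes.RGDAllP.rgd_model (KInstU.model hF hN W) hA hp0 _, G1_eq_top _ (by omega) _,
    T_comm _ hA (d_mem hF W hW) (exists_smul hF W hW), fun j => ?_, fun i j h1 h2 => ?_⟩,
    fun V _ _ ρ b a D X0 w R => row_false hF hN W hd hW (by omega) R⟩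
  · by_cases hj : (j : ℕ) + 1 < m
    · exact Or.inl fun u hu => sq_of_lt _ hj hu
    · exact Or.inr (hlast j hj)
  · have hi' : ¬ (i : ℕ) + 1 < m := fun hi => h1 fun u hu => sq_of_lt _ hi hu
    have hj' : ¬ (j : ℕ) + 1 < m := fun hj => h2 fun u hu => sq_of_lt _ hj hu
    exact Fin.ext (by have := i.2; have := j.2; omega)

/-- **`KfRowU` for `PSU_{2m+1}(q)`.** -/
theorem kfRowU {F : Type*} [Field F] [Fintype F] [CharP F 2] {q m : ℕ} (hF : Fintype.card F = q ^ 2)
    (hm : 2 ≤ m) : KfRowU.{u} (PSU (2 * m + 1) F q) := by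
  obtain ⟨T, n, X, B, h⟩ := exists_bdU.{u} hF hm
  exact ⟨m, _, _, _, T, n, X, B, fun V _ _ ρ b a D X0 w R => absurd R (h V ρ b a D X0 w)⟩

/-- **`KfRowU` for the unitary groups of odd dimension `≥ 5`.** -/
theorem kfRowU_of_odd {F : Type*} [Field F] [Fintype F] [CharP F 2] {q N : ℕ} (hF : Fintype.card F = q ^ 2)
    (hN : 5 ≤ N) (h : ¬ Even N) : KfRowU.{u} (PSU N F q) := by
  obtain ⟨m, rfl⟩ := Nat.not_even_iff_odd.1 h
  exact kfRowU hF (by omega)

end Cfsg.Agent.Omega.EH3.Kf.UOdd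

end

section


/-!
# EH3, Lie rows in characteristic 2: the data of `PΩ⁻_{2m}(q)` (helper944, for row `omm` of `Kf/Table.lean`)

* `bd_of_orth` : `FamRow.Bd` for a model `M : Model Fr K`, `Fr` of orthogonal type with `V0` a plane;
* `bd_minus` : the same for `KSideO.model (wminus m F a b hab) hG hp` (`SpecMinus.modelMinus` is an instance);
* `exists_h` : `h(p.w, q.w) = t` has a solution in `Fr.Adm`; `card_adm` : `|Fr.Adm| = |F|²`.
-/

set_option autoImplicit false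
set_option linter.unusedSectionVars false

namespace Cfsg.Agent.Omega.EH3.Kf.OMinusBd

open CoxeterSystem Cfsg.Agent.ChevalleyStructure.CoxeterGeom Cfsg.Agent.Tits.Roots
  Cfsg.Agent.Nodes.Comb Cfsg.Agent.Nodes.Reps Cfsg.Agent.Nodes.BNOf Cfsg.Agent.Nodes.TypeC
  Cfsg.Agent.Nodes.WittRoot Cfsg.Agent.Nodes.RGDLib
open Cfsg Cfsg.Agent.TitsThree Cfsg.Agent.TitsThree.Siegel Cfsg.Agent.TitsThree.SiegelGen
  Cfsg.Agent.TitsThree.WittFrame Cfsg.Agent.TitsThree.WBridge Cfsg.Agent.TitsThree.WittWeyl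
  Cfsg.Agent.TitsThree.FrameCN Cfsg.Agent.TitsThree.KSideO
open Cfsg.Agent.KFacts.WittOrth Cfsg.Agent.KFacts.SpecMinus Cfsg.Agent.OddHalf.DblR.MinusTor
open Cfsg.Agent.Omega.EH3.Kf.Base Cfsg.Agent.Omega.EH3.Kf.FamRow
open Cfsg.Agent.LieClassical Cfsg.Agent.LieClassical.OrthCore Cfsg.Agent.LieClassical.OrthTrans
open Cfsg.Agent.LieClassical.OrthSimple Cfsg.Agent.LieClassical.OrthFinite
open Cfsg.Agent.LieClassical.OrthForms

/-! ### Frames -/

section Frame

variable {F : Type*} [Field F] {V : Type*} [AddCommGroup V] [Module F V] {H : HForm F V} {n : ℕ}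
  {Fr : Frame H (Fin n)} (O : Orth Fr)

include O

/-- the form is onto on admissible pairs, if `V0` is a plane -/
theorem exists_h (hP : IsPlane Fr) (t : F) : ∃ p q : Fr.Adm, H.h p.w q.w = t := by
  obtain ⟨q, v0, w0, P, -⟩ := hP
  obtain ⟨c, hc⟩ := O.full _ (Fr.V0.smul_mem t v0.2)
  obtain ⟨d, hd⟩ := O.full _ w0.2
  refine ⟨⟨_, c, hc⟩, ⟨_, d, hd⟩, ?_⟩
  have h1 : H.h v0.1 w0.1 = 1 := P.pair
  rw [H.smul_left, h1, mul_one]

/-- the admissible pairs are the vectors of `V0` -/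
theorem card_adm_V0 : Nat.card Fr.Adm = Nat.card Fr.V0 := by
  refine Nat.card_congr (Equiv.ofBijective (fun p : Fr.Adm => (⟨p.w, Fr.ok_mem p.ok⟩ : Fr.V0)) ⟨?_, ?_⟩)
  · intro p q h
    exact O.adm_ext (congrArg Subtype.val h)
  · rintro ⟨w, hw⟩
    obtain ⟨p, hp⟩ := O.exists_adm hw
    exact ⟨p, Subtype.ext hp⟩

theorem card_adm (hP : IsPlane Fr) : Nat.card Fr.Adm = Nat.card F ^ 2 := by
  obtain ⟨q, v0, w0, P, -⟩ := hP
  have hpair : H.h v0.1 w0.1 = 1 := P.pair
  have hpair' : H.h w0.1 v0.1 = 1 := by rw [O.h_comm, hpair]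
  have h0 : ∀ v : Fr.V0, H.h v.1 v.1 = 0 := by
    intro v
    obtain ⟨p, hp⟩ := O.exists_adm v.2
    rw [← hp]
    exact O.h_self p
  rw [card_adm_V0 O, pow_two, ← Nat.card_prod]
  refine (Nat.card_congr (Equiv.ofBijective (fun x : F × F => x.1 • v0 + x.2 • w0) ⟨?_, ?_⟩)).symm
  · rintro ⟨a, b⟩ ⟨a', b'⟩ h
    have h1 : a • v0.1 + b • w0.1 = a' • v0.1 + b' • w0.1 := congrArg Subtype.val h
    have h2 := congrArg (fun v => H.h v w0.1) h1
    have h3 := congrArg (fun v => H.h v v0.1) h1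
    simp only [H.add_left, H.smul_left, hpair, hpair', h0, mul_one, mul_zero, add_zero, zero_add] at h2 h3
    exact Prod.ext h2 h3
  · intro x
    obtain ⟨c, d, h⟩ := P.span x
    exact ⟨(c, d), h.symm⟩

end Frame

/-! ### Models -/

section Model

variable {F : Type*} [Field F] {V : Type*} [AddCommGroup V] [Module F V] {H : HForm F V} {n : ℕ}
  {Fr : Frame H (Fin n)} {K : Type*} [Group K] (M : Model Fr K) (O : Orth Fr)

include O

/-- the simple root groups have exponent two -/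
theorem sq_eq_one {i : Fin n} {u : K} (hu : u ∈ Nodes.WittModel.X M (sr i)) : u * u = 1 := by
  have : CharP F 2 := CharTwo.of_one_ne_zero_of_two_eq_zero one_ne_zero O.two
  by_cases hi : (i : ℕ) + 1 < n
  · exact UOdd.sq_of_lt M hi hu
  · obtain ⟨p, rfl⟩ := (UOdd.mem_X_last M hi).1 hu
    rw [← UOdd.zz_mul, O.adm_sq, UOdd.zz_one]

/-- **The data of a model of orthogonal type, `V0` a plane.** -/
theorem bd_of_orth [Finite V] (hn : 0 < n) (hP : IsPlane Fr) (hA : Nodes.WittAll.AmbT Fr 2 M.I) {p0 : Fr.Adm}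
    (hp0 : p0.c ≠ 0) :
    Bd (CoxeterMatrix.B n) (isCartan n) (Nodes.WittModel.T M)
      (fun i => M.φ ⟨Nodes.WittRGD.nn Fr p0 i, Nodes.WittAll.nn_mem hA p0 i⟩) (Nodes.WittModel.X M) := by
  have : CharP F 2 := CharTwo.of_one_ne_zero_of_two_eq_zero one_ne_zero O.two
  have : Fact (Nat.Prime 2) := ⟨Nat.prime_two⟩
  exact ⟨finite_W (CoxeterMatrix.B n).toCoxeterSystem, Nodes.WittAll.rgdC_model M hA hp0 _,
    Nodes.WittModel.G1_eq_top M hn _, tab_model O hP M hA, fun i u hu => sq_eq_one M O hu⟩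

end Model

/-! ### The minus form -/

section Minus

variable {F : Type*} [Field F] [Finite F] [CharP F 2] {m : ℕ} (a b : F)
    (hab : ∀ z₁ z₂ : F, z₁ ^ 2 + a * z₁ * z₂ + b * z₂ ^ 2 = 0 → z₁ = 0 ∧ z₂ = 0)

include hab

theorem ambT (hm : 2 ≤ m) (hG : Good (minusForm m F a b)) :
    Nodes.WittAll.AmbT (toFrame (wminus m F a b hab)) 2 (E (minusForm m F a b)) :=
  Nodes.WittInst.ambT_O _ fun _ hg hg2 hb =>
    Nodes.WittInst.fixp_minus a b hab CharTwo.two_eq_zero hm hG hg hg2 hb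

theorem orth : Orth (toFrame (wminus m F a b hab)) := orth_minus CharTwo.two_eq_zero m a b hab

theorem isPlane : IsPlane (toFrame (wminus m F a b hab)) := isPlane_minus CharTwo.two_eq_zero m a b hab

theorem exists_h_minus (t : F) : ∃ p q : (toFrame (wminus m F a b hab)).Adm,
    (HO (minusForm m F a b)).h p.w q.w = t := exists_h (orth a b hab) (isPlane a b hab) t

theorem card_adm_minus : Nat.card (toFrame (wminus m F a b hab)).Adm = Nat.card F ^ 2 :=
  card_adm (orth a b hab) (isPlane a b hab)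

/-- **The data of `PΩ⁻_{2m+2}(F)`, `F` finite of characteristic two, `m ≥ 2`** (any `Good`, `hp`, `hA`). -/
theorem bd_minus (hm : 2 ≤ m) (hG : Good (minusForm m F a b))
    (hp : ∃ p : (toFrame (wminus m F a b hab)).Adm, p.c ≠ 0)
    (hA : Nodes.WittAll.AmbT (toFrame (wminus m F a b hab)) 2 (model (wminus m F a b hab) hG hp).I)
    {p0 : (toFrame (wminus m F a b hab)).Adm} (hp0 : p0.c ≠ 0) :
    Bd (CoxeterMatrix.B m) (isCartan m) (Nodes.WittModel.T (model (wminus m F a b hab) hG hp))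
      (fun i => (model (wminus m F a b hab) hG hp).φ
        ⟨Nodes.WittRGD.nn (toFrame (wminus m F a b hab)) p0 i, Nodes.WittAll.nn_mem hA p0 i⟩)
      (Nodes.WittModel.X (model (wminus m F a b hab) hG hp)) :=
  bd_of_orth (model (wminus m F a b hab) hG hp) (orth a b hab) (by omega) (isPlane a b hab) hA hp0

end Minus

end Cfsg.Agent.Omega.EH3.Kf.OMinusBd

end

section


/-!
# EH3, Lie rows in characteristic 2: the torus on a central cover (helper827)

`R : RGD cs h p T n X` with `n j ∈ ⟨X α_j, X (-α_j)⟩`.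

* `T0 T X = ⨆ j, T ⊓ ⟨X α_j, X (-α_j)⟩` : `rgd_T0 : RGD cs h p (T0 T X) n X`;
* `Rank1 R` : the rank one tori are cyclic and induce on `⟨X α_j, X (-α_j)⟩` everything that `T` induces;
* `comm_T0` : for a central extension `f : Y → Y'` with a datum `R'` of `Y'` with `Rank1`, the group `T0` of the lifted
  datum is abelian;
* `lift` : the datum of a perfect central extension by a `p'`-group.
-/

set_option autoImplicit false
set_option linter.unusedSectionVars false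

namespace Cfsg.Agent.Omega.EH3.Kf.Tor

open scoped commutatorElement

open CoxeterSystem Cfsg.Agent.ChevalleyStructure.CoxeterGeom Cfsg.Agent.Tits.Roots Cfsg.Agent.Tits.Core
  Cfsg.Agent.Tits.RootComb Cfsg.Agent.Nodes.Comb Cfsg.Agent.Nodes.Reps Cfsg.Agent.Nodes.BNOf
  Cfsg.Agent.Nodes.RGDLib Cfsg.Agent.Nodes.PosPair Cfsg.Agent.Nodes.RGDLift

/-! ### Braid relations and involutions -/

section Grp

variable {Q : Type*} [Group Q] {a b : Q}

theorem inv_self {a : Q} (ha : a * a = 1) : a⁻¹ = a := inv_eq_of_mul_eq_one_left ha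

theorem braid_two (ha : a * a = 1) (hb : b * b = 1) (h : (a * b) ^ 2 = 1) : a * b = b * a := by
  have h1 : (a * b) * (a * b) = 1 := by rw [← pow_two]; exact h
  rw [eq_inv_of_mul_eq_one_left h1, mul_inv_rev, inv_self ha, inv_self hb]

theorem braid_three (ha : a * a = 1) (hb : b * b = 1) (h : (a * b) ^ 3 = 1) : a * b * a = b * (a * b) := by
  have h1 : (a * b * a) * (b * a * b) = 1 := by rw [← h]; simp only [pow_succ, pow_zero, one_mul]; group
  rw [eq_inv_of_mul_eq_one_left h1, mul_inv_rev, mul_inv_rev, inv_self ha, inv_self hb]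

theorem braid_four (ha : a * a = 1) (hb : b * b = 1) (h : (a * b) ^ 4 = 1) :
    a * b * a * b = b * (a * b * a) := by
  have h1 : (a * b * a * b) * (a * b * a * b) = 1 := by rw [← h]; simp only [pow_succ, pow_zero, one_mul]; group
  rw [eq_inv_of_mul_eq_one_left h1]
  simp only [mul_inv_rev, inv_self ha, inv_self hb, mul_assoc]

theorem braid_six (ha : a * a = 1) (hb : b * b = 1) (h : (a * b) ^ 6 = 1) :
    a * b * a * b * a * b = b * (a * b * a * b * a) := by
  have h1 : (a * b * a * b * a * b) * (a * b * a * b * a * b) = 1 := by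
    rw [← h]; simp only [pow_succ, pow_zero, one_mul]; group
  rw [eq_inv_of_mul_eq_one_left h1]
  simp only [mul_inv_rev, inv_self ha, inv_self hb, mul_assoc]

theorem pow_two_of (ha : a * a = 1) (hb : b * b = 1) (h : a * b = b * a) : (a * b) ^ 2 = 1 := by
  rw [pow_two]
  nth_rewrite 2 [h]
  rw [mul_assoc, ← mul_assoc b b a, hb, one_mul, ha]

theorem pow_three_of (ha : a * a = 1) (hb : b * b = 1) (h : a * b * a = b * (a * b)) : (a * b) ^ 3 = 1 := by
  have h1 : (a * b) ^ 3 = (a * b * a) * (b * (a * b)) := by simp only [pow_succ, pow_zero, one_mul]; group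
  rw [h1, ← h]
  calc a * b * a * (a * b * a) = a * b * (a * a) * b * a := by group
    _ = 1 := by rw [ha, mul_one, mul_assoc a b b, hb, mul_one, ha]

theorem pow_four_of (ha : a * a = 1) (hb : b * b = 1) (h : a * b * a * b = b * (a * b * a)) : (a * b) ^ 4 = 1 := by
  have h1 : (a * b) ^ 4 = (a * b * a * b) * (a * b * a * b) := by simp only [pow_succ, pow_zero, one_mul]; group
  rw [h1]
  nth_rewrite 2 [h]
  calc a * b * a * b * (b * (a * b * a)) = a * b * a * (b * b) * a * b * a := by group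
    _ = a * b * (a * a) * b * a := by rw [hb, mul_one]; group
    _ = 1 := by rw [ha, mul_one, mul_assoc a b b, hb, mul_one, ha]

theorem pow_six_of (ha : a * a = 1) (hb : b * b = 1) (h : a * b * a * b * a * b = b * (a * b * a * b * a)) :
    (a * b) ^ 6 = 1 := by
  have h1 : (a * b) ^ 6 = (a * b * a * b * a * b) * (a * b * a * b * a * b) := by
    simp only [pow_succ, pow_zero, one_mul]; group
  rw [h1]
  nth_rewrite 2 [h]
  calc a * b * a * b * a * b * (b * (a * b * a * b * a)) = a * b * a * b * a * (b * b) * a * b * a * b * a := by group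
    _ = a * b * a * b * (a * a) * b * a * b * a := by rw [hb, mul_one]; group
    _ = a * b * a * (b * b) * a * b * a := by rw [ha, mul_one]; group
    _ = a * b * (a * a) * b * a := by rw [hb, mul_one]; group
    _ = 1 := by rw [ha, mul_one, mul_assoc a b b, hb, mul_one, ha]

end Grp

/-! ### The group generated by the rank one tori -/

variable {I W Y : Type*} [Fintype I] [DecidableEq I] [Group W] [Group Y] {M : CoxeterMatrix I}
  {cs : CoxeterSystem M W} {A : I → I → ℤ} {h : IsCartan M A} {p : ℕ} {T : Subgroup Y} {n : I → Y}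
  {X : (I → ℤ) → Subgroup Y}

/-- the rank one group -/
def Lr (X : (I → ℤ) → Subgroup Y) (j : I) : Subgroup Y := X (sr j) ⊔ X (-sr j)

/-- The group generated by the rank one tori. -/
def T0 (T : Subgroup Y) (X : (I → ℤ) → Subgroup Y) : Subgroup Y := ⨆ j : I, T ⊓ Lr X j

theorem T0_le : T0 T X ≤ T := iSup_le fun _ => inf_le_left

theorem le_T0 (j : I) : T ⊓ Lr X j ≤ T0 T X := le_iSup (fun j : I => T ⊓ Lr X j) j

theorem cj_Lr (R : RGD cs h p T n X) {t : Y} (ht : t ∈ T) (j : I) : cj t (Lr X j) = Lr X j := by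
  unfold Lr
  rw [cj_sup, R.tor _ (isRoot_sr cs h j) t ht, R.tor _ (isRoot_sr cs h j).neg t ht]

theorem conj_mem_Lr (R : RGD cs h p T n X) {t g : Y} (ht : t ∈ T) {j : I} (hg : g ∈ Lr X j) : t * g * t⁻¹ ∈ Lr X j := by
  rw [← cj_Lr R ht j]
  exact conj_mem_cj.2 hg

theorem conj_T0 (R : RGD cs h p T n X) {i : I} {g : Y} (hg : g ∈ Lr X i) (hgT : g ∈ Subgroup.normalizer (T : Set Y)) :
    cj g (T0 T X) ≤ T0 T X := by
  unfold T0
  rw [cj_iSup]
  refine iSup_le fun j => ?_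
  intro y hy
  rw [mem_cj] at hy
  set t := g⁻¹ * y * g with ht
  obtain ⟨h1, h2⟩ := hy
  have h3 : y = t * (t⁻¹ * g * t * g⁻¹) := by rw [ht]; group
  have h4 : g * t * g⁻¹ ∈ T := (Subgroup.mem_normalizer_iff.1 hgT t).1 h1
  have h5 : t⁻¹ * g * t * g⁻¹ ∈ Lr X i := by
    have := conj_mem_Lr R (inv_mem h1) hg
    rw [inv_inv] at this
    exact mul_mem this (inv_mem hg)
  have h6 : t⁻¹ * g * t * g⁻¹ ∈ T := by
    have : t⁻¹ * g * t * g⁻¹ = t⁻¹ * (g * t * g⁻¹) := by group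
    rw [this]
    exact mul_mem (inv_mem h1) h4
  rw [h3]
  exact mul_mem (le_T0 j ⟨h1, h2⟩) (le_T0 i ⟨h6, h5⟩)

theorem norm_T0 (R : RGD cs h p T n X) (hn : ∀ i, n i ∈ Lr X i) (i : I) :
    n i ∈ Subgroup.normalizer (T0 T X : Set Y) := by
  rw [mem_normalizer_iff_cj]
  apply le_antisymm (conj_T0 R (hn i) (R.nsys.norm i))
  have h1 := conj_T0 R ((Lr X i).inv_mem (hn i)) ((Subgroup.normalizer (T : Set Y)).inv_mem (R.nsys.norm i))
  have h2 := cj_mono (n i) h1
  rwa [cj_cj_inv] at h2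

theorem rep_sr_of {w : W} {k j : I} (hw : w * cs.simple k = cs.simple j * w) :
    rep cs h w (sr k) = sr j ∨ rep cs h w (sr k) = -sr j := by
  have h1 : rep cs h (w * cs.simple k) (sr k) = rep cs h (cs.simple j * w) (sr k) := by rw [hw]
  rw [rep_mul_apply, rep_simple_sr, map_neg, rep_mul_apply, rep_simple, refl_apply] at h1
  set z := rep cs h w (sr k) with hz
  have hzr : IsRoot cs h z := (isRoot_sr cs h k).act w
  refine eq_or_eq_neg_of_smul cs h hzr (isRoot_sr cs h j) (a := 2) (b := pairing A j z) two_ne_zero ?_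
  have h2 : (Pi.single j (pairing A j z) : I → ℤ) = pairing A j z • sr j := by
    funext l
    rw [Pi.smul_apply, sr, Pi.single_apply, Pi.single_apply]
    split_ifs <;> simp
  rw [h2] at h1
  have h3 : pairing A j z • sr j = z + z := by
    have : pairing A j z • sr j = z - (z - pairing A j z • sr j) := by abel
    rw [this, ← h1]
    abel
  rw [h3, two_smul]

theorem conj_mem_T0 (R : RGD cs h p T n X) (hn : ∀ i, n i ∈ Lr X i) {w : W} {g : Y} (hg : Rp cs R.nsys w g) {k j : I}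
    (hw : w * cs.simple k = cs.simple j * w) : g * n k * g⁻¹ * (n j)⁻¹ ∈ T0 T X := by
  refine le_T0 j ⟨?_, ?_⟩
  · have h1 := ((hg.mul (rp_simple cs R.nsys k)).mul hg.inv).mul (rp_simple cs R.nsys j).inv
    rw [hw] at h1
    have e : cs.simple j * w * w⁻¹ * (cs.simple j)⁻¹ = 1 := by group
    rw [e] at h1
    exact h1.mem_of_one
  · refine (Lr X j).mul_mem ?_ ((Lr X j).inv_mem (hn j))
    have h1 : cj g (Lr X k) ≤ Lr X j := by
      unfold Lr
      rw [cj_sup, R.conj_rp hg (isRoot_sr cs h k), R.conj_rp hg (isRoot_sr cs h k).neg, map_neg]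
      rcases rep_sr_of (h := h) hw with h2 | h2 <;> rw [h2]
      rw [neg_neg, sup_comm]
    exact h1 (conj_mem_cj.2 (hn k))

/-- the relations modulo `T0` -/
theorem rel_T0 (R : RGD cs h p T n X) (hn : ∀ i, n i ∈ Lr X i) (i j : I) : (n i * n j) ^ M i j ∈ T0 T X := by
  have hsq : ∀ i, n i * n i ∈ T0 T X := by
    intro i
    have h1 := R.nsys.rel i i
    rw [M.diagonal, pow_one] at h1
    exact le_T0 i ⟨h1, mul_mem (hn i) (hn i)⟩
  by_cases hij : i = j
  · subst hij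
    rw [M.diagonal, pow_one]
    exact hsq i
  set N0 := Subgroup.normalizer (T0 T X : Set Y) with hN0
  let ν : I → N0 := fun i => ⟨n i, norm_T0 R hn i⟩
  let π : N0 →* N0 ⧸ (T0 T X).subgroupOf N0 := QuotientGroup.mk' _
  have hπ : ∀ x : N0, π x = 1 ↔ (x : Y) ∈ T0 T X := fun x => by
    rw [QuotientGroup.mk'_apply, QuotientGroup.eq_one_iff, Subgroup.mem_subgroupOf]
  have ha : π (ν i) * π (ν i) = 1 := by rw [← map_mul, hπ]; exact hsq i
  have hb : π (ν j) * π (ν j) = 1 := by rw [← map_mul, hπ]; exact hsq j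
  have hs : ∀ k, cs.simple k * cs.simple k = 1 := fun k => cs.simple_mul_simple_self k
  have hm : (cs.simple i * cs.simple j) ^ M i j = 1 := cs.simple_mul_simple_pow i j
  have ri := rp_simple cs R.nsys i
  have rj := rp_simple cs R.nsys j
  suffices h0 : (π (ν i) * π (ν j)) ^ M i j = 1 by
    rw [← map_mul, ← map_pow, hπ] at h0
    exact h0
  have key : ∀ (g : N0) (k : I), (g : Y) * n k * (g : Y)⁻¹ * (n j)⁻¹ ∈ T0 T X → π g * π (ν k) = π (ν j) * π g := by
    intro g k hg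
    have h1 : π (g * ν k * g⁻¹ * (ν j)⁻¹) = 1 := (hπ _).2 hg
    rw [map_mul, map_mul, map_mul, map_inv, map_inv] at h1
    have h2 := mul_inv_eq_one.1 h1
    rw [← h2]
    group
  rcases h.rel i j hij with ⟨h0, -⟩ | ⟨h0, -⟩ | ⟨h0, -⟩ | ⟨h0, -⟩ <;> rw [h0] at hm ⊢
  · refine pow_two_of ha hb ?_
    exact key (ν i) j (conj_mem_T0 R hn ri (braid_two (hs i) (hs j) hm))
  · refine pow_three_of ha hb ?_
    have := key (ν i * ν j) i (conj_mem_T0 R hn (ri.mul rj) (braid_three (hs i) (hs j) hm))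
    rwa [map_mul] at this
  · refine pow_four_of ha hb ?_
    have := key (ν i * ν j * ν i) j (conj_mem_T0 R hn ((ri.mul rj).mul ri) (braid_four (hs i) (hs j) hm))
    rwa [map_mul, map_mul] at this
  · refine pow_six_of ha hb ?_
    have := key (ν i * ν j * ν i * ν j * ν i) j
      (conj_mem_T0 R hn ((((ri.mul rj).mul ri).mul rj).mul ri) (braid_six (hs i) (hs j) hm))
    rwa [map_mul, map_mul, map_mul, map_mul] at this

/-- **The datum with the smaller torus.** -/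
theorem rgd_T0 (R : RGD cs h p T n X) (hn : ∀ i, n i ∈ Lr X i) : RGD cs h p (T0 T X) n X where
  nsys := ⟨norm_T0 R hn, rel_T0 R hn⟩
  conj := R.conj
  tor x hx t ht := R.tor x hx t (T0_le ht)
  comm := R.comm
  rk1 i u hu hne := by
    obtain ⟨a, ha, t, ht, b, hb, e⟩ := R.rk1 i u hu hne
    refine ⟨a, ha, t, le_T0 i ⟨ht, ?_⟩, b, hb, e⟩
    have ha' : a ∈ Lr X i := (le_sup_left : X (sr i) ≤ _) ha
    have hb' : b ∈ Lr X i := (le_sup_left : X (sr i) ≤ _) hb
    have hu' : u ∈ Lr X i := (le_sup_right : X (-sr i) ≤ _) hu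
    have h1 : t = a⁻¹ * u * b⁻¹ * (n i)⁻¹ := by rw [e]; group
    rw [h1]
    exact mul_mem (mul_mem (mul_mem ((Lr X i).inv_mem ha') hu') ((Lr X i).inv_mem hb')) ((Lr X i).inv_mem (hn i))
  pgrp := R.pgrp
  notp := R.notp
  tcop := Nat.Coprime.coprime_dvd_left (Subgroup.card_dvd_of_le T0_le) R.tcop

/-! ### Central extensions -/

/-- The rank one tori are cyclic and induce on the rank one groups everything that `T` induces. -/
structure Rank1 (T : Subgroup Y) (n : I → Y) (X : (I → ℤ) → Subgroup Y) : Prop where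
  nmem : ∀ j, n j ∈ Lr X j
  cyc : ∀ j, ∃ z ∈ T ⊓ Lr X j, ∀ t ∈ T ⊓ Lr X j, ∃ k : ℤ, t = z ^ k
  cov : ∀ j, ∀ t ∈ T, ∃ s ∈ T ⊓ Lr X j, ∀ x ∈ Lr X j, s⁻¹ * t * x = x * (s⁻¹ * t)

variable {Y' : Type*} [Group Y'] {T' : Subgroup Y'} {n' : I → Y'} {X' : (I → ℤ) → Subgroup Y'} {f : Y →* Y'}

section Cover

variable [Finite W] [Finite Y] [Fact p.Prime] (hf : f.ker ≤ Subgroup.center Y) (hp : (Nat.card f.ker).Coprime p)
  (hs : Function.Surjective f) (R' : RGD cs h p T' n' X')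

include hf hp hs R' in
theorem map_Lr (j : I) : (Lr (fun x => lft p f (X' x)) j).map f = Lr X' j := by
  unfold Lr
  rw [Subgroup.map_sup, map_lft hf hp hs (R'.pgrp j), map_lft hf hp hs (R'.pgrp' (isRoot_sr cs h j).neg)]

include hf hp hs R' in
theorem exists_n (hn : ∀ j, n' j ∈ Lr X' j) : ∃ n : I → Y, (∀ j, f (n j) = n' j) ∧
    ∀ j, n j ∈ Lr (fun x => lft p f (X' x)) j := by
  have h1 : ∀ j, ∃ y, f y = n' j ∧ y ∈ Lr (fun x => lft p f (X' x)) j := by
    intro j
    have h2 := hn j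
    rw [← map_Lr hf hp hs R' j] at h2
    obtain ⟨y, hy, e⟩ := h2
    exact ⟨y, e, hy⟩
  choose n hn1 hn2 using h1
  exact ⟨n, hn1, hn2⟩

include hf hp hs R' in
/-- an element of the torus over an element centralising `⟨X' α_j, X' (-α_j)⟩` -/
theorem central_of {n : I → Y} (hn : ∀ j, f (n j) = n' j) {j : I} {t : Y} (ht : t ∈ T'.comap f)
    (hc : ∀ x ∈ Lr X' j, f t * x = x * f t) {y : Y} (hy : y ∈ Lr (fun x => lft p f (X' x)) j) : t * y = y * t := by
  have R := rgd_lift hf hp hs R' hn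
  have key : ∀ x, IsRoot cs h x → (∀ y ∈ X' x, f t * y = y * f t) → ∀ y ∈ lft p f (X' x), t * y = y * t := by
    intro x hx hcx y hy
    have hP := R'.pgrp' hx
    have h1 : t * y * t⁻¹ ∈ lft p f (X' x) := by
      rw [← R.tor x hx t ht]
      exact conj_mem_cj.2 hy
    have h2 : t * y * t⁻¹ * y⁻¹ = 1 := by
      refine eq_one_of_mem_lft hf hp hP (mul_mem h1 (inv_mem hy)) ?_
      rw [map_mul, map_mul, map_mul, map_inv, map_inv, hcx (f y) ((mem_lft hf hP).1 hy).1]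
      group
    have h3 := mul_inv_eq_one.1 h2
    calc t * y = t * y * t⁻¹ * t := by group
      _ = y * t := by rw [h3]
  have h1 : Lr (fun x => lft p f (X' x)) j ≤ Subgroup.centralizer {t} := by
    unfold Lr
    refine sup_le (fun y hy => ?_) (fun y hy => ?_)
    · rw [Subgroup.mem_centralizer_singleton_iff]
      exact (key _ (isRoot_sr cs h j) (fun y hy => hc y ((le_sup_left : X' (sr j) ≤ _) hy)) y hy).symm
    · rw [Subgroup.mem_centralizer_singleton_iff]
      exact (key _ (isRoot_sr cs h j).neg (fun y hy => hc y ((le_sup_right : X' (-sr j) ≤ _) hy)) y hy).symm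
  exact (Subgroup.mem_centralizer_singleton_iff.1 (h1 hy)).symm

include hf hp hs R' in
/-- **The torus of the cover is abelian.** -/
theorem comm_T0 (H : Rank1 T' n' X') {n : I → Y} (hn : ∀ j, f (n j) = n' j) {s t : Y}
    (hs' : s ∈ T0 (T'.comap f) (fun x => lft p f (X' x))) (ht' : t ∈ T0 (T'.comap f) (fun x => lft p f (X' x))) :
    s * t = t * s := by
  -- a rank one torus is abelian
  have h1 : ∀ j, ∀ s ∈ T'.comap f ⊓ Lr (fun x => lft p f (X' x)) j, ∀ t ∈ T'.comap f ⊓ Lr (fun x => lft p f (X' x)) j,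
      s * t = t * s := by
    intro j
    obtain ⟨z, hz, hz2⟩ := H.cyc j
    have hzL : z ∈ (Lr (fun x => lft p f (X' x)) j).map f := by
      rw [map_Lr hf hp hs R' j]; exact hz.2
    obtain ⟨y, hy, rfl⟩ := hzL
    have h2 : ∀ s ∈ T'.comap f ⊓ Lr (fun x => lft p f (X' x)) j, ∃ k : ℤ, ∃ c ∈ f.ker, s = y ^ k * c := by
      rintro s ⟨hs1, hs2⟩
      have hs3 : f s ∈ Lr X' j := by
        rw [← map_Lr hf hp hs R' j]
        exact Subgroup.mem_map_of_mem f hs2
      obtain ⟨k, hk⟩ := hz2 (f s) ⟨hs1, hs3⟩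
      refine ⟨k, (y ^ k)⁻¹ * s, ?_, by group⟩
      rw [MonoidHom.mem_ker, map_mul, map_inv, map_zpow, hk, inv_mul_cancel]
    intro s hs1 t ht1
    obtain ⟨k, c, hc, rfl⟩ := h2 s hs1
    obtain ⟨l, d, hd, rfl⟩ := h2 t ht1
    have hc' := Subgroup.mem_center_iff.1 (hf hc)
    have hd' := Subgroup.mem_center_iff.1 (hf hd)
    calc y ^ k * c * (y ^ l * d) = y ^ k * (y ^ l * d * c) := by rw [hc' (y ^ l * d)]; group
      _ = y ^ l * (y ^ k * d * c) := by group
      _ = y ^ l * (d * y ^ k * c) := by rw [hd' (y ^ k)]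
      _ = y ^ l * d * (y ^ k * c) := by group
  -- two rank one tori commute
  have h2 : ∀ i j, ∀ s ∈ T'.comap f ⊓ Lr (fun x => lft p f (X' x)) i, ∀ t ∈ T'.comap f ⊓ Lr (fun x => lft p f (X' x)) j,
      s * t = t * s := by
    intro i j s hs1 t ht1
    obtain ⟨z, hz, hz2⟩ := H.cov j (f s) hs1.1
    have hzL : z ∈ (Lr (fun x => lft p f (X' x)) j).map f := by
      rw [map_Lr hf hp hs R' j]; exact hz.2
    obtain ⟨y, hy, rfl⟩ := hzL
    have hyT : y ∈ T'.comap f := hz.1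
    have h3 : (y⁻¹ * s) * t = t * (y⁻¹ * s) := by
      refine central_of hf hp hs R' hn (mul_mem (inv_mem hyT) hs1.1) ?_ ht1.2
      intro x hx
      rw [map_mul, map_inv]
      exact hz2 x hx
    have h4 := h1 j y ⟨hyT, hy⟩ t ht1
    calc s * t = y * ((y⁻¹ * s) * t) := by group
      _ = y * t * (y⁻¹ * s) := by rw [h3]; group
      _ = t * s := by rw [h4]; group
  have h3 : T0 (T'.comap f) (fun x => lft p f (X' x)) ≤
      Subgroup.centralizer (T0 (T'.comap f) (fun x => lft p f (X' x)) : Set Y) := by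
    have h4 : ∀ i, T'.comap f ⊓ Lr (fun x => lft p f (X' x)) i ≤
        Subgroup.centralizer (T0 (T'.comap f) (fun x => lft p f (X' x)) : Set Y) := by
      intro i s hs1
      rw [Subgroup.mem_centralizer_iff]
      have h5 : T0 (T'.comap f) (fun x => lft p f (X' x)) ≤ Subgroup.centralizer {s} := by
        refine iSup_le fun j t ht1 => ?_
        rw [Subgroup.mem_centralizer_singleton_iff]
        exact h2 j i t ht1 s hs1
      intro t ht1
      exact Subgroup.mem_centralizer_singleton_iff.1 (h5 ht1)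
    exact iSup_le h4
  exact (Subgroup.mem_centralizer_iff.1 (h3 hs') t ht').symm

include hf hp hs R' in
/-- **The datum of a perfect central extension by a `p'`-group.** -/
theorem lift (hperf : ⁅(⊤ : Subgroup Y), (⊤ : Subgroup Y)⁆ = ⊤) (H : Rank1 T' n' X')
    (hG : RGD.Sup X' {x | IsRoot cs h x} = ⊤) :
    ∃ (T : Subgroup Y) (n : I → Y) (X : (I → ℤ) → Subgroup Y), RGD cs h p T n X ∧
      RGD.Sup X {x | IsRoot cs h x} = ⊤ ∧ (∀ s ∈ T, ∀ t ∈ T, s * t = t * s) ∧ (∀ j, n j ∈ Lr X j) ∧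
      (∀ j, f (n j) = n' j) ∧ T.map f ≤ T' ∧
      ∀ x, IsRoot cs h x → (X x).map f = X' x ∧ ∀ y ∈ X x, f y = 1 → y = 1 := by
  obtain ⟨n, hn, hnL⟩ := exists_n hf hp hs R' H.nmem
  have R := rgd_lift hf hp hs R' hn
  refine ⟨T0 (T'.comap f) (fun x => lft p f (X' x)), n, fun x => lft p f (X' x), rgd_T0 R hnL, ?_,
    fun s hs' t ht' => comm_T0 hf hp hs R' H hn hs' ht', hnL, hn, ?_, fun x hx => ?_⟩
  · -- generation
    set S := RGD.Sup (fun x => lft p f (X' x)) {x | IsRoot cs h x} with hS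
    have h1 : S.map f = ⊤ := by
      rw [hS, ← hG]
      unfold RGD.Sup
      rw [Subgroup.map_iSup]
      exact iSup_congr fun z => map_lft hf hp hs (R'.pgrp' z.2)
    have h2 : ∀ y : Y, ∃ s ∈ S, ∃ c ∈ Subgroup.center Y, y = s * c := by
      intro y
      have h3 : f y ∈ S.map f := by rw [h1]; trivial
      obtain ⟨s, hs', e⟩ := h3
      refine ⟨s, hs', s⁻¹ * y, hf ?_, by group⟩
      rw [MonoidHom.mem_ker, map_mul, map_inv, e, inv_mul_cancel]
    rw [eq_top_iff, ← hperf, Subgroup.commutator_le]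
    intro y _ y' _
    obtain ⟨s, hs1, c, hc, rfl⟩ := h2 y
    obtain ⟨s', hs2, c', hc', rfl⟩ := h2 y'
    have hc1 := Subgroup.mem_center_iff.1 hc
    have hc2 := Subgroup.mem_center_iff.1 hc'
    have h3 : ⁅s * c, s' * c'⁆ = ⁅s, s'⁆ := by
      rw [commutatorElement_def, commutatorElement_def]
      calc s * c * (s' * c') * (s * c)⁻¹ * (s' * c')⁻¹ = s * (c * s') * c' * (c⁻¹ * s⁻¹) * (c'⁻¹ * s'⁻¹) := by group
        _ = s * s' * (c * c' * c⁻¹) * s⁻¹ * (c'⁻¹ * s'⁻¹) := by rw [← hc1 s']; group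
        _ = s * s' * (c' * (c * c⁻¹)) * s⁻¹ * (c'⁻¹ * s'⁻¹) := by rw [hc2 c]; group
        _ = s * s' * (c' * s⁻¹) * c'⁻¹ * s'⁻¹ := by group
        _ = s * s' * s⁻¹ * s'⁻¹ := by rw [← hc2 s⁻¹]; group
    rw [h3, commutatorElement_def]
    exact mul_mem (mul_mem (mul_mem hs1 hs2) (inv_mem hs1)) (inv_mem hs2)
  · rintro _ ⟨t, ht, rfl⟩
    exact T0_le (T := T'.comap f) ht
  · exact ⟨map_lft hf hp hs (R'.pgrp' hx), fun y hy h1 => eq_one_of_mem_lft hf hp (R'.pgrp' hx) hy h1⟩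

end Cover

theorem card_of_map {X₁ : Subgroup Y} {X₂ : Subgroup Y'} (h1 : X₁.map f = X₂) (h2 : ∀ y ∈ X₁, f y = 1 → y = 1) :
    Nat.card X₁ = Nat.card X₂ := by
  rw [← h1]
  refine Nat.card_congr (Equiv.ofBijective (fun y : X₁ => (⟨f y, y, y.2, rfl⟩ : X₁.map f)) ⟨?_, ?_⟩)
  · rintro ⟨y, hy⟩ ⟨y', hy'⟩ e
    have e1 : f y = f y' := congrArg Subtype.val e
    have h3 := h2 (y * y'⁻¹) (mul_mem hy (inv_mem hy')) (by rw [map_mul, map_inv, e1, mul_inv_cancel])
    exact Subtype.ext (mul_inv_eq_one.1 h3)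
  · rintro ⟨_, y, hy, rfl⟩
    exact ⟨⟨y, hy⟩, rfl⟩

theorem sq_of_map {X₁ : Subgroup Y} {X₂ : Subgroup Y'} (h1 : X₁.map f = X₂) (h2 : ∀ y ∈ X₁, f y = 1 → y = 1)
    (h3 : ∀ y ∈ X₂, y * y = 1) : ∀ y ∈ X₁, y * y = 1 := fun y hy =>
  h2 _ (mul_mem hy hy) (by rw [map_mul]; exact h3 _ (h1 ▸ Subgroup.mem_map_of_mem f hy))

end Cfsg.Agent.Omega.EH3.Kf.Tor

end

section


/-!
# EH3, Lie rows in characteristic 2: `Rank1` from `ChevTwo.Sys`, the data on the cover (helper827)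

* `rank1` : `Sys R e`, finite field of characteristic two, `NoCent`, `Y = ⟨X r⟩` ==> `Rank1`;
* `HasTor cs h m Y` : `Y` has a root group datum over `cs`, `h` of characteristic two with abelian torus, elementary
  abelian root groups of order `2 ^ m`, `n j ∈ ⟨X α_j, X (-α_j)⟩`, `Y = ⟨X r⟩`;
* `hasTor_of_sys` : this holds for every perfect central extension by an odd group of a group with `Sys`.
-/

set_option autoImplicit false
set_option linter.unusedSectionVars false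

namespace Cfsg.Agent.Omega.EH3.Kf.TorSys

open CoxeterSystem Cfsg.Agent.ChevalleyStructure.CoxeterGeom Cfsg.Agent.Tits.Roots Cfsg.Agent.Tits.Core
  Cfsg.Agent.Tits.RootComb Cfsg.Agent.Nodes.Comb Cfsg.Agent.Nodes.Reps Cfsg.Agent.Nodes.BNOf
  Cfsg.Agent.Nodes.Bruhat Cfsg.Agent.Nodes.Coroot Cfsg.Agent.KFacts.ChevTwo Cfsg.Agent.KFacts.RgdSys Cfsg.Agent.KFacts.RgdCent
  Cfsg.Agent.Omega.EH3.Kf.Tor

variable {I W Y K : Type*} [Fintype I] [DecidableEq I] [Group W] [Group Y] [Field K] {M : CoxeterMatrix I}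
variable {cs : CoxeterSystem M W} {A : I → I → ℤ} {h : IsCartan M A} {e : (I → ℤ) → K → Y}
  {p : ℕ} {T : Subgroup Y} {n : I → Y} {X : (I → ℤ) → Subgroup Y}

theorem commutes_Lr {R : RGD cs h p T n X} (S : Sys R e) {j : I} {g : Y} (h1 : ∀ a, g * e (sr j) a = e (sr j) a * g)
    (h2 : ∀ a, g * e (-sr j) a = e (-sr j) a * g) : ∀ x ∈ Lr X j, g * x = x * g := by
  intro x hx
  have h3 : Lr X j ≤ Subgroup.centralizer {g} := by
    unfold Lr
    refine sup_le (fun y hy => ?_) (fun y hy => ?_)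
    · obtain ⟨a, rfl⟩ := (S.mem_X _ (isRoot_sr cs h j) y).1 hy
      rw [Subgroup.mem_centralizer_singleton_iff]
      exact (h1 a).symm
    · obtain ⟨a, rfl⟩ := (S.mem_X _ (isRoot_sr cs h j).neg y).1 hy
      rw [Subgroup.mem_centralizer_singleton_iff]
      exact (h2 a).symm
  exact (Subgroup.mem_centralizer_singleton_iff.1 (h3 hx)).symm

/-- **`Rank1` for the groups with coordinates in characteristic two.** -/
theorem rank1 [Finite W] [Finite K] [CharP K 2] {R : RGD cs h p T n X} (S : Sys R e)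
    (hG1 : RGD.Sup X {x | IsRoot cs h x} = ⊤) (hN : NoCent cs h T X) : Rank1 T n X where
  nmem j := by
    rw [S.n_eq, nel_def]
    have h1 := S.mem (isRoot_sr cs h j) 1
    have h2 := S.mem (isRoot_sr cs h j).neg 1
    exact mul_mem (mul_mem ((le_sup_left : X (sr j) ≤ _) h1) ((le_sup_right : X (-sr j) ≤ _) h2))
      ((le_sup_left : X (sr j) ≤ _) h1)
  cyc j := by
    have hj := isRoot_sr cs h j
    obtain ⟨g, hg⟩ := IsCyclic.exists_generator (α := Kˣ)
    let φ : Kˣ →* Y := {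
      toFun := fun u => hel e (sr j) (u : K)
      map_one' := by
        have := hel_mul S hG1 hN hj (c := (1 : K)) (d := 1) one_ne_zero one_ne_zero
        rw [mul_one] at this
        exact mul_eq_left.1 this
      map_mul' := fun u v => by
        rw [Units.val_mul]
        exact (hel_mul S hG1 hN hj u.ne_zero v.ne_zero).symm }
    refine ⟨φ g, (mem_T_rank_one S hG1 hN j _).2 ⟨g, g.ne_zero, rfl⟩, fun t ht => ?_⟩
    obtain ⟨a, ha, rfl⟩ := (mem_T_rank_one S hG1 hN j t).1 ht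
    obtain ⟨k, hk⟩ := Subgroup.mem_zpowers_iff.1 (hg (Units.mk0 a ha))
    refine ⟨k, ?_⟩
    rw [← map_zpow, hk]
    rfl
  cov j t ht := by
    have hj := isRoot_sr cs h j
    obtain ⟨χ, hχ⟩ := S.chi t ht
    obtain ⟨u, hu⟩ : ∃ u : K, u ^ 2 = ((χ (sr j)).toMul : Kˣ) := by
      obtain ⟨u, hu⟩ := (Finite.injective_iff_surjective.1 (frobenius_inj K 2)) (((χ (sr j)).toMul : Kˣ) : K)
      exact ⟨u, by rw [← hu]; rfl⟩
    have hu0 : u ≠ 0 := by
      rintro rfl
      rw [zero_pow two_ne_zero] at hu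
      exact (Units.ne_zero _) hu.symm
    refine ⟨hel e (sr j) u, (mem_T_rank_one S hG1 hN j _).2 ⟨u, hu0, rfl⟩, commutes_Lr S (fun a => ?_) (fun a => ?_)⟩
    · have h1 := hχ _ hj a
      have h2 := S.data.hel_conj hj hj hu0 a
      rw [cpr_self cs h hj, zpow_two, ← pow_two, hu, ← h1] at h2
      have h3 : (hel e (sr j) u)⁻¹ * t * e (sr j) a = (hel e (sr j) u)⁻¹ * (t * e (sr j) a * t⁻¹) * t := by group
      rw [h3, ← h2]
      group
    · have h1 := hχ _ hj.neg a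
      have h2 := S.data.hel_conj hj.neg hj hu0 a
      have e1 : ((χ (-sr j)).toMul : Kˣ) = ((χ (sr j)).toMul : Kˣ)⁻¹ := by rw [map_neg]; rfl
      rw [cpr_neg cs h (sr j) hj, cpr_self cs h hj, zpow_neg, zpow_two, ← pow_two, hu, ← Units.val_inv_eq_inv_val, ← e1,
        ← h1] at h2
      have h3 : (hel e (sr j) u)⁻¹ * t * e (-sr j) a = (hel e (sr j) u)⁻¹ * (t * e (-sr j) a * t⁻¹) * t := by group
      rw [h3, ← h2]
      group

/-! ### The data -/

/-- A root group datum of characteristic two over `cs`, `h`, with abelian torus and elementary abelian root groups of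
order `2 ^ m`. -/
structure TorDat (cs : CoxeterSystem M W) (h : IsCartan M A) (m : ℕ) (T : Subgroup Y) (n : I → Y)
    (X : (I → ℤ) → Subgroup Y) : Prop where
  rgd : RGD cs h 2 T n X
  gen : RGD.Sup X {x | IsRoot cs h x} = ⊤
  comm : ∀ s ∈ T, ∀ t ∈ T, s * t = t * s
  nmem : ∀ j, n j ∈ Lr X j
  card : ∀ x, IsRoot cs h x → Nat.card (X x) = 2 ^ m
  sq : ∀ x, IsRoot cs h x → ∀ y ∈ X x, y * y = 1

theorem TorDat.gg {m : ℕ} (D : TorDat cs h m T n X) : GG cs h T X = ⊤ := by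
  unfold GG
  rw [D.gen, sup_top_eq]

/-- **The data of a perfect central extension by an odd group of a group with coordinates.** -/
theorem exists_torDat [Finite W] [Finite K] [CharP K 2] {R : RGD cs h 2 T n X} (S : Sys R e)
    (hG1 : RGD.Sup X {x | IsRoot cs h x} = ⊤) (hN : NoCent cs h T X) {m : ℕ} (hm : Nat.card K = 2 ^ m)
    {Z : Type*} [Group Z] [Finite Z] (f : Z →* Y) (hf : f.ker ≤ Subgroup.center Z)
    (hp : (Nat.card f.ker).Coprime 2) (hs : Function.Surjective f)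
    (hperf : ⁅(⊤ : Subgroup Z), (⊤ : Subgroup Z)⁆ = ⊤) :
    ∃ (T' : Subgroup Z) (n' : I → Z) (X' : (I → ℤ) → Subgroup Z), TorDat cs h m T' n' X' := by
  have : Fact (Nat.Prime 2) := ⟨Nat.prime_two⟩
  obtain ⟨T', n', X', h1, h2, h3, h4, -, -, h5⟩ := lift hf hp hs R hperf (rank1 S hG1 hN) hG1
  refine ⟨T', n', X', h1, h2, h3, h4, fun x hx => ?_, fun x hx => ?_⟩
  · rw [card_of_map (h5 x hx).1 (h5 x hx).2, ← hm]
    refine Nat.card_congr (Equiv.ofBijective (fun g : X x => ((S.mem_X x hx g).1 g.2).choose) ⟨?_, ?_⟩)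
    · intro g g' hgg
      have e1 := ((S.mem_X x hx g).1 g.2).choose_spec
      have e2 := ((S.mem_X x hx g').1 g'.2).choose_spec
      apply Subtype.ext
      rw [← e1, ← e2]
      exact congrArg (e x) hgg
    · intro t
      have ht : e x t ∈ X x := (S.mem_X x hx _).2 ⟨t, rfl⟩
      refine ⟨⟨e x t, ht⟩, ?_⟩
      apply S.data.injective hx
      exact ((S.mem_X x hx (e x t)).1 ht).choose_spec
  · refine sq_of_map (h5 x hx).1 (h5 x hx).2 fun y hy => ?_
    obtain ⟨t, rfl⟩ := (S.mem_X x hx y).1 hy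
    exact S.data.sq hx t

end Cfsg.Agent.Omega.EH3.Kf.TorSys

end

section


/-!
# EH3, Lie rows in characteristic 2: `|H : L| ≤ 2` (helper227)

`L` normal in the finite group `H`, `H` faithful and irreducible on `V`, a root group datum of characteristic 2 on `L`
with `C_V(U) = {0, a}` and one of the five diagrams of `Goal.Good`; all elements of odd order of `H` lie in `L`.

* `a2_of_three` : `M i j = 3` gives `A2 (sr i) (sr j)`;
* `cent_G1` : the subgroup `G₁` generated by the root groups is normal in `H` with `C_H(G₁) = 1`;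
* `eq_one_of_fix'` : `g ∈ N₁` trivial on all `X_i` is `1`;
* `sg_eq` : the signs of `g ∈ N₁` on `X_i` and `X_j` agree if `M i j = 3`, `|X_i| = |X_j| = 4`;
* `index_le_two` : `|H : L| ≤ 2`.
-/

set_option autoImplicit false
set_option linter.unusedSectionVars false

namespace Cfsg.Agent.Omega.EH3.Kf.Idx

open CoxeterSystem Cfsg.Agent.ChevalleyStructure.CoxeterGeom Cfsg.Agent.Tits.Roots Cfsg.Agent.Tits.Core
  Cfsg.Agent.Tits.RootComb Cfsg.Agent.Nodes.Comb Cfsg.Agent.Nodes.Reps Cfsg.Agent.Nodes.BNOf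
  Cfsg.Agent.Nodes.StabComb Cfsg.Agent.Nodes.Bruhat Cfsg.Agent.Nodes.LeviDec Cfsg.Agent.Nodes.Coroot
  Cfsg.Agent.KFacts.RgdDiag Cfsg.Agent.KFacts.RgdSL
  Cfsg.Agent.Omega.EH3.Kf.Odd Cfsg.Agent.Omega.EH3.Kf.Sym Cfsg.Agent.Omega.EH3.Kf.Goal
open Cfsg.Agent.LieRecognition.BNCox (cA)
open scoped commutatorElement

variable {I W Y : Type*} [Fintype I] [DecidableEq I] [Group W] [Group Y] {M : CoxeterMatrix I}
  {cs : CoxeterSystem M W} {A : I → I → ℤ} {h : IsCartan M A} {p : ℕ} {T : Subgroup Y} {n : I → Y}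
  {X : (I → ℤ) → Subgroup Y}

/-! ### roots in the plane of two nodes with label 3 -/

/-- pairings of a vector supported on `{i, j}` -/
theorem pairing_two {i j : I} (hij : i ≠ j) {x : I → ℤ} (hx : ∀ k, k ≠ i → k ≠ j → x k = 0) (k : I) :
    pairing A k x = A k i * x i + A k j * x j := by
  unfold pairing
  rw [← Finset.sum_subset (Finset.subset_univ {i, j}), Finset.sum_pair hij]
  intro l _ hl
  rw [Finset.mem_insert, Finset.mem_singleton, not_or] at hl
  rw [hx l hl.1 hl.2, mul_zero]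

/-- A root with support `{i, j}`, `M i j = 3`, both coefficients positive, is `sr i + sr j`. -/
theorem eq_add_of_supp {i j : I} (hij : i ≠ j) (h1 : A i j = -1) (h2 : A j i = -1) {x : I → ℤ} (hx : IsRoot cs h x)
    (hi : 0 < x i) (hj : 0 < x j) (hk : ∀ k, k ≠ i → k ≠ j → x k = 0) : x = sr i + sr j := by
  have key : ∀ i j : I, i ≠ j → A i j = -1 → A j i = -1 → ∀ x : I → ℤ, IsRoot cs h x → 0 < x i → 0 < x j →
      (∀ k, k ≠ i → k ≠ j → x k = 0) → x j < 2 * x i → x = sr i + sr j := by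
    intro i j hij h1 h2 x hx hi hj hk h3
    -- reflect in `i`
    have hp := pairing_two (A := A) hij hk i
    rw [h.diag, h1] at hp
    have hs := hx.act (cs.simple i)
    have e1 : rep cs h (cs.simple i) x i = x j - x i := by
      rw [rep_simple_apply_self, hp]; ring
    have e2 : rep cs h (cs.simple i) x j = x j := rep_simple_apply cs h i x j hij.symm
    have e3 : ∀ k, k ≠ i → rep cs h (cs.simple i) x k = x k := fun k hk' => rep_simple_apply cs h i x k hk'
    have hpos : 0 ≤ rep cs h (cs.simple i) x := by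
      rcases hs.pos_or_neg with h4 | h4
      · exact h4
      · have := h4 j
        rw [e2] at this
        exact absurd this (not_le.2 hj)
    have h5 := hpos i
    rw [e1] at h5
    change 0 ≤ x j - x i at h5
    -- reflect in `j`
    have hp' := pairing_two (A := A) hij hk j
    rw [h.diag, h2] at hp'
    have hs' := hx.act (cs.simple j)
    have f1 : rep cs h (cs.simple j) x j = x i - x j := by
      rw [rep_simple_apply_self, hp']; ring
    have f2 : rep cs h (cs.simple j) x i = x i := rep_simple_apply cs h j x i hij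
    have hpos' : 0 ≤ rep cs h (cs.simple j) x := by
      rcases hs'.pos_or_neg with h4 | h4
      · exact h4
      · have := h4 i
        rw [f2] at this
        exact absurd this (not_le.2 hi)
    have h6 := hpos' j
    rw [f1] at h6
    change 0 ≤ x i - x j at h6
    have h7 : x i = x j := by omega
    have h8 : rep cs h (cs.simple i) x = sr j := by
      refine hs.eq_sr hpos j fun k hk' => ?_
      by_cases hki : k = i
      · subst hki
        rw [e1, h7]; ring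
      · rw [e3 k hki, hk k hki hk']
    have h9 := congrFun h8 j
    rw [e2, sr_self] at h9
    funext k
    rw [Pi.add_apply]
    by_cases hki : k = i
    · subst hki
      rw [sr_self, sr_ne hij, h7, h9]; rfl
    · by_cases hkj : k = j
      · subst hkj
        rw [sr_self, sr_ne hij.symm, h9]; rfl
      · rw [sr_ne hki, sr_ne hkj, hk k hki hkj]; rfl
  by_cases h3 : x j < 2 * x i
  · exact key i j hij h1 h2 x hx hi hj hk h3
  · rw [add_comm]
    exact key j i hij.symm h2 h1 x hx hj hi (fun k h4 h5 => hk k h5 h4) (by omega)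

/-- `M i j = 3` gives `A2 (sr i) (sr j)`. -/
theorem a2_of_three [Finite W] {i j : I} (h3 : M i j = 3) : A2 cs h (sr i) (sr j) := by
  have hij : i ≠ j := by
    rintro rfl
    rw [M.diagonal] at h3
    omega
  have hA : A i j = -1 ∧ A j i = -1 := by
    rcases h.rel i j hij with h1 | h1 | h1 | h1
    · rw [h3] at h1; omega
    · exact h1.2
    · rw [h3] at h1; omega
    · rw [h3] at h1; omega
  have sup : ∀ {x : I → ℤ}, IsRoot cs h x → 0 < x i → 0 < x j → (∀ k, k ≠ i → k ≠ j → x k = 0) →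
      x = sr i + sr j := fun hx h1 h2 h3 => eq_add_of_supp hij hA.1 hA.2 hx h1 h2 h3
  have hb : ∀ z, Btwn cs h (sr i) (sr j) z → z = sr i + sr j := by
    rintro z ⟨hz, m, a, b, hm, ha, hb, he⟩
    have ei := congrFun he i
    have ej := congrFun he j
    rw [Pi.add_apply, Pi.smul_apply, Pi.smul_apply, Pi.smul_apply, sr_self, sr_ne hij] at ei
    rw [Pi.add_apply, Pi.smul_apply, Pi.smul_apply, Pi.smul_apply, sr_self, sr_ne hij.symm] at ej
    simp only [smul_eq_mul, mul_one, mul_zero, add_zero, zero_add] at ei ej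
    refine sup hz ?_ ?_ ?_
    · by_contra hc
      push Not at hc
      nlinarith
    · by_contra hc
      push Not at hc
      nlinarith
    · intro k hki hkj
      have ek := congrFun he k
      rw [Pi.add_apply, Pi.smul_apply, Pi.smul_apply, Pi.smul_apply, sr_ne hki, sr_ne hkj] at ek
      simp only [smul_eq_mul, mul_zero, add_zero] at ek
      rcases mul_eq_zero.1 ek with h5 | h5
      · omega
      · exact h5
  have psr : ∀ k l : I, pairing A k (sr l) = A k l := by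
    intro k l
    rw [sr, pairing_single, mul_one]
  have hb' : ∀ z, Btwn cs h (sr j) (sr i) z → z = sr i + sr j := fun z hz => hb z hz.symm
  have r1 : rep cs h (cs.simple i) (sr i + sr j) = sr j := by
    rw [rep_simple_eq, pairing_add, psr, psr, h.diag, hA.1]
    module
  have r2 : rep cs h (cs.simple j) (sr i + sr j) = sr i := by
    rw [rep_simple_eq, pairing_add, psr, psr, h.diag, hA.2]
    module
  have act : ∀ (w : W) {x y z : I → ℤ}, Btwn cs h x y z → Btwn cs h (rep cs h w x) (rep cs h w y) (rep cs h w z) := by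
    rintro w x y z ⟨hz, m, a, b, hm, ha, hb, he⟩
    refine ⟨hz.act w, m, a, b, hm, ha, hb, ?_⟩
    rw [← map_smul, he, map_add, map_smul, map_smul]
  refine ⟨isRoot_sr cs h i, isRoot_sr cs h j, by rw [cpr_sr, psr, hA.2], by rw [cpr_sr, psr, hA.1], hb, ?_, ?_, ?_,
    ?_, ?_⟩
  · rintro z ⟨hz, m, a, b, hm, ha, hb, he⟩
    have ei := congrFun he i
    have ej := congrFun he j
    simp only [Pi.add_apply, Pi.smul_apply, Pi.neg_apply, sr_self, sr_ne hij, smul_eq_mul, mul_one, mul_zero,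
      add_zero, mul_neg] at ei
    simp only [Pi.add_apply, Pi.smul_apply, Pi.neg_apply, sr_self, sr_ne hij.symm, smul_eq_mul, mul_one, mul_zero,
      neg_zero, zero_add] at ej
    rcases hz.pos_or_neg with h4 | h4
    · have h5 : 0 ≤ z i := h4 i
      have : 0 ≤ m * z i := mul_nonneg hm.le h5
      omega
    · have h5 : z j ≤ 0 := h4 j
      have : m * z j ≤ 0 := mul_nonpos_of_nonneg_of_nonpos hm.le h5
      omega
  · intro z hz
    have h4 := act (cs.simple i) hz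
    rw [map_neg, rep_simple_sr, neg_neg, r1] at h4
    have h5 := hb _ h4
    have h6 := congrArg (rep cs h (cs.simple i)) h5
    rw [r1, ← rep_mul_apply, cs.simple_mul_simple_self, map_one, Module.End.one_apply] at h6
    exact h6
  · intro z hz
    have h4 := act (cs.simple j) hz
    rw [map_neg, rep_simple_sr, neg_neg, r2] at h4
    have h5 := hb' _ h4
    have h6 := congrArg (rep cs h (cs.simple j)) h5
    rw [r2, ← rep_mul_apply, cs.simple_mul_simple_self, map_one, Module.End.one_apply] at h6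
    exact h6
  · rintro z ⟨hz, m, a, b, hm, ha, hb, he⟩
    have ei := congrFun he i
    have ej := congrFun he j
    simp only [Pi.add_apply, Pi.smul_apply, sr_self, sr_ne hij, smul_eq_mul, mul_one, mul_zero, add_zero] at ei
    simp only [Pi.add_apply, Pi.smul_apply, sr_self, sr_ne hij.symm, smul_eq_mul, mul_one, zero_add] at ej
    have h6 := sup hz (by
      by_contra hc
      push Not at hc
      nlinarith) (by
      by_contra hc
      push Not at hc
      nlinarith) (by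
      intro k hki hkj
      have ek := congrFun he k
      simp only [Pi.add_apply, Pi.smul_apply, sr_ne hki, sr_ne hkj, smul_eq_mul, mul_zero, add_zero] at ek
      rcases mul_eq_zero.1 ek with h5 | h5
      · omega
      · exact h5)
    have h7 := congrFun h6 i
    have h8 := congrFun h6 j
    rw [Pi.add_apply, sr_self, sr_ne hij] at h7
    rw [Pi.add_apply, sr_self, sr_ne hij.symm] at h8
    rw [h7] at ei
    rw [h8] at ej
    omega
  · rintro z ⟨hz, m, a, b, hm, ha, hb, he⟩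
    have ei := congrFun he i
    have ej := congrFun he j
    simp only [Pi.add_apply, Pi.smul_apply, sr_self, sr_ne hij, smul_eq_mul, mul_one, add_zero] at ei
    simp only [Pi.add_apply, Pi.smul_apply, sr_self, sr_ne hij.symm, smul_eq_mul, mul_one, mul_zero, add_zero,
      zero_add] at ej
    have h6 := sup hz (by
      by_contra hc
      push Not at hc
      nlinarith) (by
      by_contra hc
      push Not at hc
      nlinarith) (by
      intro k hki hkj
      have ek := congrFun he k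
      simp only [Pi.add_apply, Pi.smul_apply, sr_ne hki, sr_ne hkj, smul_eq_mul, mul_zero, add_zero] at ek
      rcases mul_eq_zero.1 ek with h5 | h5
      · omega
      · exact h5)
    have h7 := congrFun h6 i
    have h8 := congrFun h6 j
    rw [Pi.add_apply, sr_self, sr_ne hij] at h7
    rw [Pi.add_apply, sr_self, sr_ne hij.symm] at h8
    rw [h7] at ei
    rw [h8] at ej
    omega

/-! ### frame automorphisms -/

section

variable (R : RGD cs h p T n X)

include R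

/-- A frame automorphism with trivial diagram symmetry, trivial on the groups `X_i`, is trivial on all root
groups. -/
theorem root_of_fix [Finite W] {β : MulAut Y} (D : Diag T X β 1)
    (hfix : ∀ i, ∀ x ∈ X (sr i), β x = x) {r : I → ℤ} (hr : IsRoot cs h r) {u : Y} (hu : u ∈ X r) : β u = u := by
  -- the fixed subgroup
  let K0 : Subgroup Y :=
    { carrier := {x | β x = x}
      one_mem' := map_one β
      mul_mem' := by
        intro x y (hx : β x = x) (hy : β y = y)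
        show β (x * y) = x * y
        rw [map_mul, hx, hy]
      inv_mem' := by
        intro x (hx : β x = x)
        show β x⁻¹ = x⁻¹
        rw [map_inv, hx] }
  have hK0 : ∀ x, x ∈ K0 ↔ β x = x := fun x => Iff.rfl
  have hβn : ∀ i, (n i)⁻¹ * β (n i) ∈ T := fun i => (rp_simple cs R.nsys i).unique (D.rp (R := R) i)
  have hn' : ∀ i, ∃ k ∈ K0, Rp cs R.nsys (cs.simple i) k := by
    intro i
    obtain ⟨u, hu, hu1⟩ := exists_ne_one R i
    have h1 : n i * u * (n i)⁻¹ ∈ X (-sr i) := by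
      have := R.conj_mem (rp_simple cs R.nsys i) (isRoot_sr cs h i) hu
      rwa [rep_simple_sr] at this
    have h2 : n i * u * (n i)⁻¹ ≠ 1 := fun h3 => hu1 (mul_eq_left.1 (mul_inv_eq_one.1 h3))
    obtain ⟨a, ha, t, ht, b, hb, e⟩ := R.rk1 i _ h1 h2
    set v := n i * u * (n i)⁻¹ with hv
    have hk : Rp cs R.nsys (cs.simple i) (t * n i) := by
      have := (rp_of_mem (cs := cs) (hN := R.nsys) ht).mul (rp_simple cs R.nsys i)
      rwa [one_mul] at this
    have hβa := hfix i a ha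
    have hβb := hfix i b hb
    have hz : v⁻¹ * β v ∈ X (-sr i) := mul_mem (inv_mem h1) ((D.neg i v).2 h1)
    have hβk : (t * n i)⁻¹ * β (t * n i) ∈ T := by
      have h3 : Rp cs R.nsys (cs.simple i) (β (t * n i)) := by
        have := (rp_of_mem (cs := cs) (hN := R.nsys) ((D.tor t).2 ht)).mul (D.rp (R := R) i)
        rw [map_mul]
        rwa [one_mul] at this
      exact hk.unique h3
    have e1 : v⁻¹ * β v = b⁻¹ * ((t * n i)⁻¹ * β (t * n i)) * b := by
      rw [e, map_mul, map_mul, map_mul, hβa, hβb, map_mul]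
      group
    have hbB : b ∈ RGD.B cs h T X := RGD.X_le_B (isRoot_sr cs h i) (sr_nonneg i) hb
    have h3 : v⁻¹ * β v ∈ RGD.B cs h T X := by
      rw [e1]
      exact mul_mem (mul_mem (inv_mem hbB) (RGD.T_le_B hβk)) hbB
    have h4 : (n i)⁻¹ * (v⁻¹ * β v) * n i ∈ X (sr i) := by
      have := R.conj_mem' (rp_simple cs R.nsys i) (isRoot_sr cs h i).neg hz
      rwa [inv_simple, map_neg, rep_simple_sr, neg_neg] at this
    have h5 : (n i)⁻¹ * (v⁻¹ * β v) * n i = 1 := by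
      refine eq_one_of_conj_mem_B R h4 (rp_simple cs R.nsys i) ?_
      have e2 : n i * ((n i)⁻¹ * (v⁻¹ * β v) * n i) * (n i)⁻¹ = v⁻¹ * β v := by group
      rw [e2]
      exact h3
    have h6 : v⁻¹ * β v = 1 := by
      have e2 : v⁻¹ * β v = n i * ((n i)⁻¹ * (v⁻¹ * β v) * n i) * (n i)⁻¹ := by group
      rw [e2, h5]; group
    have h7 : β v = v := by
      rw [inv_mul_eq_one] at h6
      exact h6.symm
    refine ⟨t * n i, ?_, hk⟩
    have e3 : t * n i = a⁻¹ * v * b⁻¹ := by rw [e]; group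
    rw [hK0, e3, map_mul, map_mul, map_inv, map_inv, hβa, hβb, h7]
  have hw : ∀ w : W, ∃ k ∈ K0, Rp cs R.nsys w k := by
    intro w
    obtain ⟨ω, rfl⟩ := cs.wordProd_surjective w
    induction ω with
    | nil => exact ⟨1, one_mem _, by rw [wordProd_nil]; exact rp_one⟩
    | cons i ω ih =>
      obtain ⟨k, hk, hk'⟩ := ih
      obtain ⟨k', hk1, hk2⟩ := hn' i
      exact ⟨k' * k, mul_mem hk1 hk, by rw [wordProd_cons]; exact hk2.mul hk'⟩
  obtain ⟨w, i, rfl⟩ := hr
  obtain ⟨k, hk, hk'⟩ := hw w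
  have h1 : k⁻¹ * u * k ∈ X (sr i) := by
    have := R.conj_mem' hk' ((isRoot_sr cs h i).act w) hu
    rwa [rep_inv_apply] at this
  have h2 : u = k * (k⁻¹ * u * k) * k⁻¹ := by group
  have h3 : u ∈ K0 := by
    rw [h2]
    exact mul_mem (mul_mem hk (hfix i _ h1)) (inv_mem hk)
  exact h3

/-- the subgroup generated by the root groups is normal -/
theorem G1_normal (hG : GG cs h T X = ⊤) : (RGD.Sup X {x | IsRoot cs h x}).Normal := by
  rw [← Subgroup.normalizer_eq_top_iff, eq_top_iff, ← hG]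
  refine sup_le ?_ Subgroup.le_normalizer
  intro t ht
  rw [mem_normalizer_iff_cj]
  have key : ∀ s ∈ T, cj s (RGD.Sup X {x | IsRoot cs h x}) ≤ RGD.Sup X {x | IsRoot cs h x} := by
    intro s hs
    rw [show cj s (RGD.Sup X {x | IsRoot cs h x}) = (RGD.Sup X {x | IsRoot cs h x}).map (MulAut.conj s).toMonoidHom
      from rfl, Subgroup.map_le_iff_le_comap]
    refine RGD.Sup_le fun x hx u hu => ?_
    rw [Subgroup.mem_comap]
    refine RGD.le_Sup hx ?_
    have h1 := R.tor x hx s hs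
    rw [← h1]
    exact Subgroup.mem_map_of_mem _ hu
  apply le_antisymm (key t ht)
  have h1 := cj_mono t (key t⁻¹ (inv_mem ht))
  rwa [cj_cj_inv] at h1

end

/-! ### `C_H(G₁) = 1` -/

section Main

variable {H : Type*} [Group H] {L : Subgroup H} [L.Normal] {T : Subgroup L} {n : I → L}
  {X : (I → ℤ) → Subgroup L}

/-- the subgroup of `H` generated by the root groups -/
def G1 (cs : CoxeterSystem M W) (h : IsCartan M A) (X : (I → ℤ) → Subgroup L) : Subgroup H :=
  (RGD.Sup X {x | IsRoot cs h x}).map L.subtype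

theorem mem_G1 {x : L} : (x : H) ∈ G1 cs h X ↔ x ∈ RGD.Sup X {x | IsRoot cs h x} := by
  unfold G1
  constructor
  · rintro ⟨y, hy, e⟩
    rw [← Subtype.ext (e : (y : H) = x)]
    exact hy
  · exact fun hx => ⟨x, hx, rfl⟩

variable [Finite H] (R : RGD cs h p T n X)

include R

/-- a `p`-subgroup of `L` is contained in `G₁` -/
theorem pgroup_le [Finite W] [Fact p.Prime] (hG : GG cs h T X = ⊤) {P : Subgroup L} (hP : IsPGroup p P) :
    P ≤ RGD.Sup X {x | IsRoot cs h x} := by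
  have hN := G1_normal R hG
  obtain ⟨P', hP'⟩ := hP.exists_le_sylow
  obtain ⟨S, hS⟩ := (R.isPGroup_Upos (cs := cs) (h := h)).exists_le_sylow
  have hSU : (S : Subgroup L) = RGD.Sup X (RGD.Pos cs h) :=
    Cfsg.Agent.Nodes.NormalForm.eq_U_of_isPGroup R S.isPGroup' hS (by rw [hG]; exact le_top)
  have hU : (S : Subgroup L) ≤ RGD.Sup X {x | IsRoot cs h x} := by
    rw [hSU]
    exact RGD.Sup_le fun x hx => RGD.le_Sup hx.1
  obtain ⟨g, hg⟩ := MulAction.exists_smul_eq L S P'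
  intro x hx
  have h1 : x ∈ (P' : Subgroup L) := hP' hx
  rw [← hg, Sylow.coe_subgroup_smul, Subgroup.mem_pointwise_smul_iff_inv_smul_mem] at h1
  have h2 : (MulAut.conj g)⁻¹ • x = g⁻¹ * x * g := by
    rw [← map_inv, MulAut.smul_def, MulAut.conj_apply, inv_inv]
  rw [h2] at h1
  have h3 := hN.conj_mem _ (hU h1) g
  have h4 : g * (g⁻¹ * x * g) * g⁻¹ = x := by group
  rwa [h4] at h3

/-- `G₁` is normal in `H` -/
theorem G1_normal' [Finite W] [Fact p.Prime] (hG : GG cs h T X = ⊤) : (G1 cs h X : Subgroup H).Normal := by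
  constructor
  intro x hx g
  obtain ⟨y, hy, rfl⟩ := hx
  have h1 : RGD.Sup X {x | IsRoot cs h x} ≤ (RGD.Sup X {x | IsRoot cs h x}).comap (cn L g).toMonoidHom := by
    refine RGD.Sup_le fun r hr u hu => ?_
    rw [Subgroup.mem_comap]
    have h2 : IsPGroup p ((X r).map (cn L g).toMonoidHom) := (R.pgrp' hr).map _
    exact pgroup_le R hG h2 (Subgroup.mem_map_of_mem _ hu)
  have h2 := h1 hy
  rw [Subgroup.mem_comap, ← mem_G1] at h2
  exact h2

/-- `C_H(G₁) = 1` -/
theorem cent_G1 [Finite W] [Fact p.Prime] (hG : GG cs h T X = ⊤) {V : Type*} [AddCommGroup V] [Module (ZMod 2) V]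
    {ρ : H →* (V ≃ₗ[ZMod 2] V)} {a : V} (hinj : Function.Injective ρ)
    (hirr : ∀ W : Submodule (ZMod 2) V, (∀ g, ∀ v ∈ W, ρ g v ∈ W) → W = ⊥ ∨ W = ⊤) (ha : a ≠ 0)
    (hUa : ∀ u ∈ RGD.Sup X (RGD.Pos cs h), ρ (u : H) a = a)
    (hcent : ∀ v, (∀ u ∈ RGD.Sup X (RGD.Pos cs h), ρ (u : H) v = v) → v = 0 ∨ v = a) {c : H}
    (hc : ∀ x ∈ (G1 cs h X : Subgroup H), x * c = c * x) : c = 1 := by
  have hmul : ∀ (g k : H) (v : V), ρ (g * k) v = ρ g (ρ k v) := by
    intro g k v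
    rw [map_mul]; rfl
  have hN := G1_normal' R hG
  let C := Subgroup.centralizer ((G1 cs h X : Subgroup H) : Set H)
  have hC : ∀ g : H, g ∈ C ↔ ∀ x ∈ (G1 cs h X : Subgroup H), x * g = g * x := fun g =>
    Subgroup.mem_centralizer_iff
  have hCN : C.Normal := by
    constructor
    intro x hx g
    rw [hC] at hx ⊢
    intro y hy
    have h1 := hx (g⁻¹ * y * g) (by
      have := hN.conj_mem y hy g⁻¹
      rwa [inv_inv] at this)
    calc y * (g * x * g⁻¹) = g * ((g⁻¹ * y * g) * x) * g⁻¹ := by group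
      _ = g * (x * (g⁻¹ * y * g)) * g⁻¹ := by rw [h1]
      _ = g * x * g⁻¹ * y := by group
  let F : Submodule (ZMod 2) V :=
    { carrier := {v | ∀ x ∈ C, ρ x v = v}
      zero_mem' := fun x _ => map_zero _
      add_mem' := by
        intro v w hv hw x hx
        show ρ x (v + w) = v + w
        rw [map_add, hv x hx, hw x hx]
      smul_mem' := by
        intro r v hv x hx
        show ρ x (r • v) = r • v
        rw [map_smul, hv x hx] }
  have hF : ∀ v, v ∈ F ↔ ∀ x ∈ C, ρ x v = v := fun v => Iff.rfl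
  have haF : a ∈ F := by
    intro x hx
    have h1 := hcent (ρ x a) (by
      intro u hu
      have h2 : (u : H) ∈ (G1 cs h X : Subgroup H) := mem_G1.2 (by
        have : RGD.Sup X (RGD.Pos cs h) ≤ RGD.Sup X {x | IsRoot cs h x} :=
          RGD.Sup_le fun x hx => RGD.le_Sup hx.1
        exact this hu)
      rw [← hmul, (hC x).1 hx _ h2, hmul, hUa u hu])
    rcases h1 with h1 | h1
    · exfalso
      apply ha
      apply (ρ x).injective
      rw [h1, map_zero]
    · exact h1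
  have h1 := hirr F (by
    intro g v hv x hx
    have h2 := hCN.conj_mem x hx g⁻¹
    rw [inv_inv] at h2
    have h3 : x * g = g * (g⁻¹ * x * g) := by group
    rw [← hmul, h3, hmul, hv _ h2])
  rcases h1 with h1 | h1
  · exfalso
    rw [h1] at haF
    exact ha haF
  · apply hinj
    ext v
    have h2 : v ∈ F := by rw [h1]; trivial
    have h3 := h2 c ((hC c).2 hc)
    rw [h3, map_one]
    rfl

/-- an element of `N₁` trivial on all `X_i` is `1` -/
theorem eq_one_of_fix' [Finite W] (hC : ∀ c : H, (∀ x ∈ (G1 cs h X : Subgroup H), x * c = c * x) → c = 1) {g : H}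
    (hg : g ∈ N1 T X) (hfix : ∀ i, ∀ x ∈ X (sr i), cn L g x = x) : g = 1 := by
  apply hC
  rintro _ ⟨y, hy, rfl⟩
  let K0 : Subgroup L :=
    { carrier := {x | cn L g x = x}
      one_mem' := map_one (cn L g)
      mul_mem' := by
        intro x y (hx : cn L g x = x) (hy : cn L g y = y)
        show cn L g (x * y) = x * y
        rw [map_mul, hx, hy]
      inv_mem' := by
        intro x (hx : cn L g x = x)
        show cn L g x⁻¹ = x⁻¹
        rw [map_inv, hx] }
  have h1 : RGD.Sup X {x | IsRoot cs h x} ≤ K0 :=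
    RGD.Sup_le fun r hr u hu => root_of_fix R (mem_N1.1 hg) hfix hr hu
  have h2 : cn L g y = y := h1 hy
  have h3 := cn_apply (L := L) g y
  rw [h2] at h3
  show (y : H) * g = g * (y : H)
  rw [eq_mul_inv_iff_mul_eq] at h3
  exact h3

end Main

/-! ### small permutations -/

theorem exists_fixed {α : Type*} [Fintype α] [DecidableEq α] (π : Equiv.Perm α) (x0 : α) (hx : π x0 = x0)
    (hs : Equiv.Perm.sign π = -1) (hc : Fintype.card α = 4) : ∃ x, x ≠ x0 ∧ π x = x := by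
  have h2 : π.support ⊆ Finset.univ.erase x0 := by
    intro x hx'
    rw [Finset.mem_erase]
    refine ⟨?_, Finset.mem_univ x⟩
    rintro rfl
    exact (Equiv.Perm.mem_support.1 hx') hx
  by_contra hcon
  push Not at hcon
  have h3 : π.support = Finset.univ.erase x0 := by
    apply Finset.Subset.antisymm h2
    intro x hx'
    rw [Finset.mem_erase] at hx'
    exact Equiv.Perm.mem_support.2 (hcon x hx'.1)
  have h4 : π.support.card = 3 := by
    rw [h3, Finset.card_erase_of_mem (Finset.mem_univ x0), Finset.card_univ, hc]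
  have h5 := (card_support_eq_three_iff.1 h4).sign
  rw [h5] at hs
  exact absurd hs (by decide)

section Main2

variable {H : Type*} [Group H] {L : Subgroup H} [L.Normal] {T : Subgroup L} {n : I → L}
  {X : (I → ℤ) → Subgroup L} [Finite H]

theorem fix_of_two {i : I} (h2 : Nat.card (X (sr i)) = 2) {g : H} (hg : g ∈ N1 T X) {x : L} (hx : x ∈ X (sr i)) :
    cn L g x = x := by
  by_cases hx1 : x = 1
  · rw [hx1, map_one]
  · have h3 : cn L g x ∈ X (sr i) := ((mem_N1.1 hg).pos i x).2 hx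
    have h4 : cn L g x ≠ 1 := fun h5 => hx1 ((cn L g).map_eq_one_iff.1 h5)
    rw [Nat.card_eq_two_iff' (1 : X (sr i))] at h2
    obtain ⟨r, hr1, hr2⟩ := h2
    have e3 := hr2 ⟨_, h3⟩ (fun e => h4 (congrArg Subtype.val e))
    have e4 := hr2 ⟨_, hx⟩ (fun e => hx1 (congrArg Subtype.val e))
    exact congrArg Subtype.val (e3.trans e4.symm)

theorem sg_of_two {i : I} (h2 : Nat.card (X (sr i)) = 2) (g : N1 T X) : sg T X i g = 1 := by
  classical
  let _ : Fintype {x : L // x ∈ X (sr i)} := Fintype.ofFinite _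
  have h1 : pa i g = 1 := by
    ext x
    rw [pa_apply, fix_of_two h2 g.2 x.2]
    rfl
  show Equiv.Perm.sign (pa i g) = 1
  rw [h1, Equiv.Perm.sign_one]

variable (R : RGD cs h p T n X)

include R

set_option maxHeartbeats 1000000 in
/-- the signs of two nodes with label 3 agree -/
theorem sg_eq [Finite W] {i j : I} (h3 : M i j = 3) (hi : Nat.card (X (sr i)) = 4) (hj : Nat.card (X (sr j)) = 4)
    {g : N1 T X} (hs : sg T X i g = -1) : sg T X j g = -1 := by
  classical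
  rcases Int.units_eq_one_or (sg T X j g) with h1 | h1
  swap
  · exact h1
  exfalso
  have hA : A2 cs h (sr i) (sr j) := a2_of_three h3
  let _ : Fintype {x : L // x ∈ X (sr i)} := Fintype.ofFinite _
  have h4 : sg T X i (g ^ 3) = -1 := by
    rw [map_pow, hs]; decide
  have h5 : Equiv.Perm.sign (pa i (g ^ 3)) = -1 := by
    rw [← h4]
    unfold sg
    rw [MonoidHom.comp_apply]
  have hc : Fintype.card {x : L // x ∈ X (sr i)} = 4 := by
    rw [← Nat.card_eq_fintype_card]; exact hi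
  obtain ⟨y, hy1, hy2⟩ := exists_fixed (pa i (g ^ 3)) ⟨1, one_mem _⟩ (by
    apply Subtype.ext
    rw [pa_apply, map_one]) h5 hc
  have hfj : ∀ v ∈ X (sr j), cn L ((g : H) ^ 3) v = v := fun v hv => cube_of_sg j hj.le h1 hv
  have hy3 : cn L ((g : H) ^ 3) y.1 = y.1 := by
    have := congrArg Subtype.val hy2
    rw [pa_apply, Subgroup.coe_pow] at this
    exact this
  have hy4 : y.1 ≠ 1 := fun e => hy1 (Subtype.ext e)
  have hfs : ∀ w ∈ X (sr i + sr j), cn L ((g : H) ^ 3) w = w := by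
    intro w hw
    obtain ⟨v, hv, rfl⟩ := A2.comm_surj R hA y.2 hy4 hw
    rw [map_commutatorElement, hy3, hfj v hv]
  have h6 : pa i (g ^ 3) ≠ 1 := by
    intro h6
    rw [h6, Equiv.Perm.sign_one] at h5
    exact absurd h5 (by decide)
  obtain ⟨x, hx⟩ : ∃ x, pa i (g ^ 3) x ≠ x := by
    by_contra hcon
    push Not at hcon
    exact h6 (Equiv.ext hcon)
  have hx0 : ((pa i (g ^ 3) x : {x : L // x ∈ X (sr i)}) : L) = cn L ((g : H) ^ 3) x.1 := by
    rw [pa_apply, Subgroup.coe_pow]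
  have hx' : cn L ((g : H) ^ 3) x.1 ∈ X (sr i) := by
    rw [← hx0]
    exact (pa i (g ^ 3) x).2
  have hx1 : cn L ((g : H) ^ 3) x.1 ≠ x.1 := by
    rw [← hx0]
    exact fun e => hx (Subtype.ext e)
  generalize cn L ((g : H) ^ 3) = β at *
  obtain ⟨v, hv, hv1⟩ := exists_ne_one R j
  have h7 := hfs _ (A2.comm_mem R hA x.2 hv)
  rw [map_commutatorElement, hfj v hv] at h7
  have h8 : ⁅(β x.1)⁻¹ * x.1, v⁆ = 1 := by
    rw [commutatorElement_eq_one_iff_mul_comm]
    rw [commutatorElement_def, commutatorElement_def] at h7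
    have h9 : β x.1 * v * (β x.1)⁻¹ = x.1 * v * x.1⁻¹ := mul_right_cancel h7
    calc (β x.1)⁻¹ * x.1 * v = (β x.1)⁻¹ * (x.1 * v * x.1⁻¹) * x.1 := by group
      _ = (β x.1)⁻¹ * (β x.1 * v * (β x.1)⁻¹) * x.1 := by rw [h9]
      _ = v * ((β x.1)⁻¹ * x.1) := by group
  refine A2.comm_ne_one R hA (mul_mem (inv_mem hx') x.2) ?_ hv hv1 h8
  intro e
  rw [inv_mul_eq_one] at e
  exact hx1 e

end Main2

/-! ### the index -/

theorem index_of_mul {H : Type*} [Group H] {L : Subgroup H} (hL : ∀ g k : H, g ∉ L → k ∉ L → g * k ∈ L) :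
    L.index ≤ 2 := by
  by_cases h1 : L = ⊤
  · rw [h1, Subgroup.index_top]; omega
  · have h2 : ∃ a, a ∉ L := by
      by_contra hcon
      push Not at hcon
      exact h1 (eq_top_iff.2 fun x _ => hcon x)
    obtain ⟨a, ha⟩ := h2
    have h3 : L.index = 2 := by
      rw [Subgroup.index_eq_two_iff]
      refine ⟨a, fun b => ?_⟩
      by_cases hb : b ∈ L
      · right
        refine ⟨hb, fun h4 => ha ?_⟩
        have := L.mul_mem (L.inv_mem hb) h4
        rwa [inv_mul_cancel_left] at this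
      · left
        exact ⟨hL b a hb ha, hb⟩
    omega

/-! ### diagram symmetries -/

theorem uA (σ τ : Equiv.Perm (Fin 5)) (hσ : ∀ i j, cA 5 (σ i) (σ j) = cA 5 i j)
    (hτ : ∀ i j, cA 5 (τ i) (τ j) = cA 5 i j) (hσ1 : σ ≠ 1) (hτ1 : τ ≠ 1) : σ * τ = 1 := by
  have key : ∀ σ : Equiv.Perm (Fin 5), (∀ i j, cA 5 (σ i) (σ j) = cA 5 i j) → σ ≠ 1 →
      σ 0 = 4 ∧ σ 1 = 3 ∧ σ 2 = 2 ∧ σ 3 = 1 ∧ σ 4 = 0 := by
    intro σ hσ hσ1
    have h : ∀ i j, tA (σ i) (σ j) = tA i j := by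
      intro i j
      rw [← tA_eq, ← tA_eq]
      exact hσ i j
    rcases keyA (σ 0) (σ 1) (by rw [h]; decide) (σ 2) (by rw [h]; decide) (by rw [h]; decide) (σ 3)
      (by rw [h]; decide) (by rw [h]; decide) (σ 4) (by rw [h]; decide) (by rw [h]; decide) with
      ⟨h0, h1, h2, h3, h4⟩ | h5
    · exfalso
      apply hσ1
      ext i
      congr 1
      fin_cases i
      · exact h0
      · exact h1
      · exact h2
      · exact h3
      · exact h4
    · exact h5
  obtain ⟨s0, s1, s2, s3, s4⟩ := key σ hσ hσ1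
  obtain ⟨t0, t1, t2, t3, t4⟩ := key τ hτ hτ1
  ext i
  rw [Equiv.Perm.mul_apply, Equiv.Perm.one_apply]
  congr 1
  fin_cases i
  · show σ (τ 0) = 0
    rw [t0, s4]
  · show σ (τ 1) = 1
    rw [t1, s3]
  · show σ (τ 2) = 2
    rw [t2, s2]
  · show σ (τ 3) = 3
    rw [t3, s1]
  · show σ (τ 4) = 4
    rw [t4, s0]

theorem uD (σ τ : Equiv.Perm (Fin 6)) (hσ : ∀ i j, Nodes.TypeD.M 4 (σ i) (σ j) = Nodes.TypeD.M 4 i j)
    (hτ : ∀ i j, Nodes.TypeD.M 4 (τ i) (τ j) = Nodes.TypeD.M 4 i j) (hσ1 : σ ≠ 1) (hτ1 : τ ≠ 1) : σ * τ = 1 := by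
  have key : ∀ σ : Equiv.Perm (Fin 6), (∀ i j, Nodes.TypeD.M 4 (σ i) (σ j) = Nodes.TypeD.M 4 i j) → σ ≠ 1 →
      σ 0 = 0 ∧ σ 1 = 1 ∧ σ 2 = 2 ∧ σ 3 = 3 ∧ σ 4 = 5 ∧ σ 5 = 4 := by
    intro σ hσ hσ1
    have h : ∀ i j, tD (σ i) (σ j) = tD i j := by
      intro i j
      rw [← tD_eq, ← tD_eq]
      exact hσ i j
    rcases keyD (σ 0) (σ 1) (by rw [h]; decide) (σ 2) (by rw [h]; decide) (by rw [h]; decide) (σ 3) (by rw [h]; decide)
      (by rw [h]; decide) (σ 4) (by rw [h]; decide) (by rw [h]; decide) (σ 5) (by rw [h]; decide) (by rw [h]; decide)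
      (by rw [h]; decide) with ⟨h0, h1, h2, h3, h4, h5⟩ | h6
    · exfalso
      apply hσ1
      ext i
      congr 1
      fin_cases i
      · exact h0
      · exact h1
      · exact h2
      · exact h3
      · exact h4
      · exact h5
    · exact h6
  obtain ⟨s0, s1, s2, s3, s4, s5⟩ := key σ hσ hσ1
  obtain ⟨t0, t1, t2, t3, t4, t5⟩ := key τ hτ hτ1
  ext i
  rw [Equiv.Perm.mul_apply, Equiv.Perm.one_apply]
  congr 1
  fin_cases i
  · show σ (τ 0) = 0
    rw [t0, s0]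
  · show σ (τ 1) = 1
    rw [t1, s1]
  · show σ (τ 2) = 2
    rw [t2, s2]
  · show σ (τ 3) = 3
    rw [t3, s3]
  · show σ (τ 4) = 4
    rw [t4, s5]
  · show σ (τ 5) = 5
    rw [t5, s4]

theorem uE (σ : Equiv.Perm (Fin 7)) (hσ : ∀ i j, CoxeterMatrix.E₇ (σ i) (σ j) = CoxeterMatrix.E₇ i j) : σ = 1 := by
  have h : ∀ i j, tE (σ i) (σ j) = tE i j := by
    intro i j
    rw [← tE_eq, ← tE_eq]
    exact hσ i j
  obtain ⟨h0, h1, h2, h3, h4, h5, h6⟩ := keyE (σ 0) (σ 2) (by rw [h]; decide) (σ 3) (by rw [h]; decide)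
    (by rw [h]; decide) (σ 1) (by rw [h]; decide) (by rw [h]; decide) (by rw [h]; decide)
    (σ 4) (by rw [h]; decide) (by rw [h]; decide) (by rw [h]; decide)
    (σ 5) (by rw [h]; decide) (by rw [h]; decide) (σ 6) (by rw [h]; decide) (by rw [h]; decide)
  ext i
  congr 1
  fin_cases i
  · exact h0
  · exact h1
  · exact h2
  · exact h3
  · exact h4
  · exact h5
  · exact h6

theorem uB (σ : Equiv.Perm (Fin 3)) (hσ : ∀ i j, CoxeterMatrix.B 3 (σ i) (σ j) = CoxeterMatrix.B 3 i j) : σ = 1 := by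
  have h : ∀ i j, tB (σ i) (σ j) = tB i j := by
    intro i j
    rw [← tB_eq, ← tB_eq]
    exact hσ i j
  obtain ⟨h0, h1, h2⟩ := keyB (σ 1) (σ 2) (by rw [h]; decide) (σ 0) (by rw [h]; decide)
  ext i
  congr 1
  fin_cases i
  · exact h0
  · exact h1
  · exact h2

/-! ### the theorem -/

section Final

variable {l : ℕ} {M : CoxeterMatrix (Fin l)} {A : Fin l → Fin l → ℤ} {h : IsCartan M A}
  {H : Type*} [Group H] [Finite H] {L : Subgroup H} [L.Normal] {T : Subgroup L} {n : Fin l → L}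
  {X : (Fin l → ℤ) → Subgroup L} {q : Fin l → ℕ} {i : Fin l}

/-- all orders `2`: the elements outside `L` multiply into `L` -/
theorem mul_of_two [Finite M.Group] (R : RGD M.toCoxeterSystem h 2 T n X) (hG : GG M.toCoxeterSystem h T X = ⊤)
    (hC : ∀ c : H, (∀ x ∈ (G1 M.toCoxeterSystem h X : Subgroup H), x * c = c * x) → c = 1)
    (hq : ∀ j, Nat.card (X (sr j)) = 2)
    (hsym : ∀ σ τ : Equiv.Perm (Fin l), (∀ i j, M (σ i) (σ j) = M i j) → (∀ i j, M (τ i) (τ j) = M i j) →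
      σ ≠ 1 → τ ≠ 1 → σ * τ = 1) (g k : H) (hg : g ∉ L) (hk : k ∉ L) : g * k ∈ L := by
  have : Fact (Nat.Prime 2) := ⟨Nat.prime_two⟩
  have hN : ∀ g ∈ N1 T X, g = (1 : H) := fun g hg => eq_one_of_fix' R hC hg fun i x hx => fix_of_two (hq i) hg hx
  obtain ⟨u, σ, hσ⟩ := exists_frame' R hG g
  obtain ⟨v, τ, hτ⟩ := exists_frame' R hG k
  have hσ1 : σ ≠ 1 := by
    rintro rfl
    have h1 := hN _ (mem_N1.2 hσ)
    apply hg
    have h2 : g = (u : H)⁻¹ := by
      rw [eq_inv_iff_mul_eq_one]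
      have h3 : (u : H) * g * (u : H) * (u : H)⁻¹ = (u : H)⁻¹ * (u : H) := by rw [h1]; group
      have h4 : g = (u : H)⁻¹ * ((u : H) * g) := by group
      rw [h4, h1]; group
    rw [h2]
    exact inv_mem u.2
  have hτ1 : τ ≠ 1 := by
    rintro rfl
    have h1 := hN _ (mem_N1.2 hτ)
    apply hk
    have h2 : k = (v : H)⁻¹ := by
      have h4 : k = (v : H)⁻¹ * ((v : H) * k) := by group
      rw [h4, h1]; group
    rw [h2]
    exact inv_mem v.2
  have h1 := hσ.mul hτ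
  rw [hsym σ τ (fun i j => Diag.matrix R hσ i j) (fun i j => Diag.matrix R hτ i j) hσ1 hτ1, ← cn_mul] at h1
  have h2 := hN _ (mem_N1.2 h1)
  have h3 : g * k = (u : H)⁻¹ * ((u : H) * g * ((v : H) * k)) * (k⁻¹ * (v : H)⁻¹ * k) := by group
  rw [h3, h2]
  have h4 : k⁻¹ * (v : H)⁻¹ * k ∈ L := by
    have := (inferInstance : L.Normal).conj_mem (v : H)⁻¹ (inv_mem v.2) k⁻¹
    rwa [inv_inv] at this
  exact mul_mem (mul_mem (inv_mem u.2) (one_mem _)) h4

/-- the case `C₃(4,4,2)` -/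
theorem mul_of_C3 {M : CoxeterMatrix (Fin 3)} (hM : M = CoxeterMatrix.B 3) {A : Fin 3 → Fin 3 → ℤ} {h : IsCartan M A}
    {T : Subgroup L} {n : Fin 3 → L} {X : (Fin 3 → ℤ) → Subgroup L}
    [Finite M.Group] (R : RGD M.toCoxeterSystem h 2 T n X) (hG : GG M.toCoxeterSystem h T X = ⊤)
    (hC : ∀ c : H, (∀ x ∈ (G1 M.toCoxeterSystem h X : Subgroup H), x * c = c * x) → c = 1)
    (hodd : ∀ g : H, Odd (orderOf g) → g ∈ L)
    (hq : ∀ j, Nat.card (X (sr j)) = ![4, 4, 2] j) (g k : H) (hg : g ∉ L) (hk : k ∉ L) : g * k ∈ L := by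
  have : Fact (Nat.Prime 2) := ⟨Nat.prime_two⟩
  have h01 : M 0 1 = 3 := by
    rw [hM, tB_eq]; decide
  have h10 : M 1 0 = 3 := by
    rw [hM, tB_eq]; decide
  have q0 : Nat.card (X (sr 0)) = 4 := hq 0
  have q1 : Nat.card (X (sr 1)) = 4 := hq 1
  have q2 : Nat.card (X (sr 2)) = 2 := hq 2
  have hT2 : ∀ g ∈ T2 T X, g ∈ L := by
    intro g hg
    obtain ⟨hg1, hg2⟩ := mem_T2.1 hg
    have h1 : g ^ 3 = 1 := by
      refine eq_one_of_fix' R hC ((N1 T X).pow_mem hg1 3) ?_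
      intro i x hx
      have h5 : ∀ i : Fin 3, (![4, 4, 2] : Fin 3 → ℕ) i ≤ 4 := by decide
      exact cube_of_sg (g := ⟨g, hg1⟩) i (by rw [hq]; exact h5 i) (hg2 i) hx
    exact hodd g (Odd.of_dvd_nat (by decide) (orderOf_dvd_of_pow_eq_one h1))
  have hN : ∀ g (hg : g ∈ N1 T X), sg T X 0 ⟨g, hg⟩ = 1 → g ∈ L := by
    intro g hg h1
    refine hT2 g (mem_T2.2 ⟨hg, fun i => ?_⟩)
    have h2 : sg T X 1 ⟨g, hg⟩ = 1 := by
      rcases Int.units_eq_one_or (sg T X 1 ⟨g, hg⟩) with h2 | h2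
      · exact h2
      · have h3 := sg_eq R h10 q1 q0 h2
        rw [h1] at h3
        exact absurd h3 (by decide)
    fin_cases i
    · exact h1
    · exact h2
    · exact sg_of_two q2 _
  obtain ⟨u, σ, hσ⟩ := exists_frame' R hG g
  obtain ⟨v, τ, hτ⟩ := exists_frame' R hG k
  have hσ1 : σ = 1 := uB σ fun i j => by
    have := Diag.matrix R hσ i j
    rwa [hM] at this
  have hτ1 : τ = 1 := uB τ fun i j => by
    have := Diag.matrix R hτ i j
    rwa [hM] at this
  subst hσ1 hτ1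
  have hg' : (u : H) * g ∈ N1 T X := mem_N1.2 hσ
  have hk' : (v : H) * k ∈ N1 T X := mem_N1.2 hτ
  have h1 : sg T X 0 ⟨(u : H) * g, hg'⟩ = -1 := by
    rcases Int.units_eq_one_or (sg T X 0 ⟨(u : H) * g, hg'⟩) with h2 | h2
    · exfalso
      apply hg
      have h3 := hN _ hg' h2
      have h4 := mul_mem (inv_mem u.2) h3
      rwa [inv_mul_cancel_left] at h4
    · exact h2
  have h2 : sg T X 0 ⟨(v : H) * k, hk'⟩ = -1 := by
    rcases Int.units_eq_one_or (sg T X 0 ⟨(v : H) * k, hk'⟩) with h2 | h2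
    · exfalso
      apply hk
      have h3 := hN _ hk' h2
      have h4 := mul_mem (inv_mem v.2) h3
      rwa [inv_mul_cancel_left] at h4
    · exact h2
  have h3 := hN _ (mul_mem hg' hk') (by
    have : (⟨(u : H) * g * ((v : H) * k), mul_mem hg' hk'⟩ : N1 T X) = ⟨(u : H) * g, hg'⟩ * ⟨(v : H) * k, hk'⟩ := rfl
    rw [this, map_mul, h1, h2]; decide)
  have h4 : g * k = (u : H)⁻¹ * ((u : H) * g * ((v : H) * k)) * (k⁻¹ * (v : H)⁻¹ * k) := by group
  rw [h4]
  have h5 : k⁻¹ * (v : H)⁻¹ * k ∈ L := by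
    have := (inferInstance : L.Normal).conj_mem (v : H)⁻¹ (inv_mem v.2) k⁻¹
    rwa [inv_inv] at this
  exact mul_mem (mul_mem (inv_mem u.2) h3) h5

/-- **`|H : L| ≤ 2`.** -/
theorem index_le_two [Finite M.Group] {V : Type*} [AddCommGroup V] [Module (ZMod 2) V]
    {ρ : H →* (V ≃ₗ[ZMod 2] V)} {a : V} (hinj : Function.Injective ρ)
    (hirr : ∀ W : Submodule (ZMod 2) V, (∀ g, ∀ v ∈ W, ρ g v ∈ W) → W = ⊥ ∨ W = ⊤) (ha : a ≠ 0)
    (hgood : Good M q i) (hodd : ∀ g : H, Odd (orderOf g) → g ∈ L)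
    (R : RGD M.toCoxeterSystem h 2 T n X) (hG : GG M.toCoxeterSystem h T X = ⊤)
    (hfix : ∀ j, j ≠ i → ∀ g ∈ PJ M.toCoxeterSystem h T X {j}, ρ (g : H) a = a)
    (hq : ∀ j, Nat.card (X (sr j)) = q j)
    (hcent : ∀ v, (∀ u ∈ RGD.Sup X (RGD.Pos M.toCoxeterSystem h), ρ (u : H) v = v) → v = 0 ∨ v = a) :
    L.index ≤ 2 := by
  have : Fact (Nat.Prime 2) := ⟨Nat.prime_two⟩
  have hUa : ∀ u ∈ RGD.Sup X (RGD.Pos M.toCoxeterSystem h), ρ (u : H) a = a := by
    have key : ∀ j : Fin l, j ≠ i → ∀ u ∈ RGD.Sup X (RGD.Pos M.toCoxeterSystem h), ρ (u : H) a = a := by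
      intro j hj u hu
      refine hfix j hj u ?_
      exact B_le_PJ (RGD.U_le_B hu)
    cases hgood with
    | A5 => exact key 0 (by decide)
    | D6 => exact key 0 (by decide)
    | D6' => exact key 0 (by decide)
    | E7 => exact key 0 (by decide)
    | C3 => exact key 0 (by decide)
  have hC : ∀ c : H, (∀ x ∈ (G1 M.toCoxeterSystem h X : Subgroup H), x * c = c * x) → c = 1 :=
    fun c hc => cent_G1 R hG hinj hirr ha hUa hcent hc
  apply index_of_mul
  cases hgood with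
  | A5 => exact mul_of_two R hG hC hq fun σ τ h1 h2 h3 h4 => uA σ τ h1 h2 h3 h4
  | D6 => exact mul_of_two R hG hC hq fun σ τ h1 h2 h3 h4 => uD σ τ h1 h2 h3 h4
  | D6' => exact mul_of_two R hG hC hq fun σ τ h1 h2 h3 h4 => uD σ τ h1 h2 h3 h4
  | E7 => exact mul_of_two R hG hC hq fun σ τ h1 _ h3 _ => absurd (uE σ h1) h3
  | C3 => exact mul_of_C3 rfl R hG hC hodd hq

end Final

end Cfsg.Agent.Omega.EH3.Kf.Idx

end

section


/-!
# EH3 END: `U` has two different commutators `≠ 1` (helper134, for helper805's closing theorem)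

`exists_comm` : in the five cases of `Good`, for every `t` there are `x, y ∈ U` with `⁅x, y⁆ ≠ 1`, `⁅x, y⁆ ≠ t`.
-/

set_option autoImplicit false

namespace Cfsg.Agent.Omega.EH3Close.UComm

open CoxeterSystem Cfsg.Agent.ChevalleyStructure.CoxeterGeom Cfsg.Agent.Tits.Roots Cfsg.Agent.Tits.Core
  Cfsg.Agent.Tits.RootComb Cfsg.Agent.Nodes.Comb Cfsg.Agent.Nodes.Reps Cfsg.Agent.Nodes.BNOf
  Cfsg.Agent.Nodes.StabComb Cfsg.Agent.Nodes.Bruhat Cfsg.Agent.Nodes.OppDec Cfsg.Agent.Nodes.LeviDec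
  Cfsg.Agent.KFacts.RgdSL Cfsg.Agent.Omega.EH3.Kf
open Cfsg.Agent.Omega.EH3.Kf.Goal (Good)
open scoped commutatorElement

variable {I W Y : Type*} [Fintype I] [DecidableEq I] [Group W] [Group Y] {M : CoxeterMatrix I}
  {cs : CoxeterSystem M W} {A : I → I → ℤ} {h : IsCartan M A} {p : ℕ} {T : Subgroup Y} {n : I → Y}
  {X : (I → ℤ) → Subgroup Y}

theorem mem_Pos_of_sr {i : I} {x : Y} (hx : x ∈ X (sr i)) : x ∈ RGD.Sup X (RGD.Pos cs h) :=
  RGD.le_Sup (S := RGD.Pos cs h) ⟨isRoot_sr cs h i, sr_nonneg i⟩ hx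

/-- three nodes -/
theorem of_three (R : RGD cs h p T n X) [Finite W] {i j k : I} (hik : i ≠ k) (h1 : A2 cs h (sr i) (sr j))
    (h2 : A2 cs h (sr j) (sr k)) (t : Y) :
    ∃ x ∈ RGD.Sup X (RGD.Pos cs h), ∃ y ∈ RGD.Sup X (RGD.Pos cs h), ⁅x, y⁆ ≠ 1 ∧ ⁅x, y⁆ ≠ t := by
  obtain ⟨a, ha, ha1⟩ := exists_ne_one R i
  obtain ⟨b, hb, hb1⟩ := exists_ne_one R j
  obtain ⟨c, hc, hc1⟩ := exists_ne_one R k
  have e1 := A2.comm_ne_one R h1 ha ha1 hb hb1
  have e2 := A2.comm_ne_one R h2 hb hb1 hc hc1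
  by_cases ht : ⁅a, b⁆ = t
  · refine ⟨b, mem_Pos_of_sr hb, c, mem_Pos_of_sr hc, e2, fun ht' => e2 ?_⟩
    have m1 := A2.comm_mem R h1 ha hb
    have m2 := A2.comm_mem R h2 hb hc
    rw [ht, ← ht'] at m1
    have hne : sr i + sr j ≠ sr j + sr k := by
      intro h3
      have h4 := congrFun h3 i
      rw [Pi.add_apply, Pi.add_apply, sr_self, sr_ne hik] at h4
      omega
    have h3 := X_inf_X R h1.rxy h2.rxy hne
    rw [Subgroup.eq_bot_iff_forall] at h3
    exact h3 _ ⟨m1, m2⟩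
  · exact ⟨a, mem_Pos_of_sr ha, b, mem_Pos_of_sr hb, e1, ht⟩

/-- two nodes, `|X_j| > 2` -/
theorem of_two (R : RGD cs h p T n X) [Finite W] {i j : I} (h1 : A2 cs h (sr i) (sr j))
    (hj : 2 < Nat.card (X (sr j))) (t : Y) :
    ∃ x ∈ RGD.Sup X (RGD.Pos cs h), ∃ y ∈ RGD.Sup X (RGD.Pos cs h), ⁅x, y⁆ ≠ 1 ∧ ⁅x, y⁆ ≠ t := by
  obtain ⟨a, ha, ha1⟩ := exists_ne_one R i
  obtain ⟨b, hb, hb1⟩ := exists_ne_one R j
  have : Finite (X (sr j)) := Nat.finite_of_card_ne_zero (by omega)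
  obtain ⟨c, hc1, hcb⟩ : ∃ c : X (sr j), c ≠ 1 ∧ c ≠ ⟨b, hb⟩ := by
    by_contra hcon
    push Not at hcon
    have h2 : (Set.univ : Set (X (sr j))) ⊆ {1, ⟨b, hb⟩} := by
      intro c _
      by_cases hc : c = 1
      · exact Or.inl hc
      · exact Or.inr (hcon c hc)
    have h3 := Set.ncard_le_ncard h2 (Set.toFinite _)
    rw [Set.ncard_univ] at h3
    have h4 : ({1, ⟨b, hb⟩} : Set (X (sr j))).ncard = 2 := Set.ncard_pair fun h5 => hb1 (congrArg Subtype.val h5).symm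
    omega
  have hc1' : (c : Y) ≠ 1 := fun h2 => hc1 (Subtype.ext h2)
  have e1 := A2.comm_ne_one R h1 ha ha1 hb hb1
  have e2 := A2.comm_ne_one R h1 ha ha1 c.2 hc1'
  by_cases ht : ⁅a, b⁆ = t
  · refine ⟨a, mem_Pos_of_sr ha, c, mem_Pos_of_sr c.2, e2, fun ht' => hcb ?_⟩
    apply Subtype.ext
    exact A2.comm_inj R h1 ha ha1 c.2 hb (by rw [ht, ht'])
  · exact ⟨a, mem_Pos_of_sr ha, b, mem_Pos_of_sr hb, e1, ht⟩

/-- **Two different commutators.** -/
theorem exists_comm {Y : Type*} [Group Y] {l : ℕ} {M : CoxeterMatrix (Fin l)} {q : Fin l → ℕ} {i : Fin l}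
    (hg : Good M q i) [Finite M.Group] {A' : Fin l → Fin l → ℤ} {h : IsCartan M A'} {T : Subgroup Y}
    {n : Fin l → Y} {X : (Fin l → ℤ) → Subgroup Y} (R : RGD M.toCoxeterSystem h 2 T n X)
    (hq : ∀ j, Nat.card (X (sr j)) = q j) (t : Y) :
    ∃ x ∈ RGD.Sup X (RGD.Pos M.toCoxeterSystem h), ∃ y ∈ RGD.Sup X (RGD.Pos M.toCoxeterSystem h),
      ⁅x, y⁆ ≠ 1 ∧ ⁅x, y⁆ ≠ t := by
  cases hg with
  | A5 =>
    exact of_three R (i := 0) (j := 1) (k := 2) (by decide) (Idx.a2_of_three (by rw [Sym.tA_eq]; decide))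
      (Idx.a2_of_three (by rw [Sym.tA_eq]; decide)) t
  | D6 =>
    exact of_three R (i := 0) (j := 1) (k := 2) (by decide) (Idx.a2_of_three (by rw [Sym.tD_eq]; decide))
      (Idx.a2_of_three (by rw [Sym.tD_eq]; decide)) t
  | D6' =>
    exact of_three R (i := 0) (j := 1) (k := 2) (by decide) (Idx.a2_of_three (by rw [Sym.tD_eq]; decide))
      (Idx.a2_of_three (by rw [Sym.tD_eq]; decide)) t
  | E7 =>
    exact of_three R (i := 0) (j := 2) (k := 3) (by decide) (Idx.a2_of_three (by rw [Sym.tE_eq]; decide))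
      (Idx.a2_of_three (by rw [Sym.tE_eq]; decide)) t
  | C3 =>
    exact of_two R (i := 0) (j := 1) (Idx.a2_of_three (by rw [Sym.tB_eq]; decide)) (by rw [hq]; decide) t

end Cfsg.Agent.Omega.EH3Close.UComm

end
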